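import Cfsg.Agent.H852.IMSuz
import Cfsg.Agent.H713.Spor.McL

/-!
# Itô-Michler for `HS` and `McL`: the primes seen in the characters of degree 22, 77 and 252 (helper852)
-/

set_option autoImplicit false
open Cfsg

namespace Cfsg.Agent.H852.IMLeech

open Cfsg.Agent.H33 Cfsg.Agent.H713.Spor Cfsg.Agent.SporadicRecognition.HSRank
  Cfsg.Agent.SporadicRecognition.TwoEmb Cfsg.Agent.SporadicRecognition.HSParam

theorem im_hs_of {S : Type*} [Group S] (h : Spor.IsoHS S) {p : ℕ} (hp : p = 2 ∨ p = 7 ∨ p = 11) :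
    IM p S := by
  obtain ⟨e⟩ := h
  refine IM.of_equiv (e.trans hsEquiv) ?_
  rcases hp with rfl | hp
  · obtain ⟨μ, -, hμ⟩ := HS.exists_22
    obtain ⟨hs, hcard⟩ := HS.facts
    have hfin : Finite ↥(K HS.V HS.W) := Nat.finite_of_card_ne_zero (by rw [hcard]; norm_num)
    have h1 := HS.degree_of_lchi hμ
    exact ⟨μ, by rw [show charDegree (μ : ↥(K HS.V HS.W) → ℂ) = 22 by omega]; norm_num⟩
  · obtain ⟨χ, hχ⟩ := HS.exists_77
    refine ⟨χ, ?_⟩
    rw [hχ]
    rcases hp with rfl | rfl <;> norm_num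

theorem im_mcl_of {S : Type*} [Group S] (h : Spor.IsoMcL S) {p : ℕ} (hp : p = 2 ∨ p = 3 ∨ p = 7 ∨ p = 11) :
    IM p S := by
  obtain ⟨e⟩ := h
  refine IM.of_equiv (e.trans McL.mclEquiv) ?_
  by_cases h11 : p = 11
  · subst h11
    obtain ⟨μ, -, hμ⟩ := McL.exists_22
    obtain ⟨hs, hcard⟩ := McL.facts
    have hfin : Finite ↥(K (-Spor.leechV) Spor.leechU) := Nat.finite_of_card_ne_zero (by rw [hcard]; norm_num)
    have h1 := HS.degree_of_lchi hμ
    exact ⟨μ, by rw [show charDegree (μ : ↥(K (-Spor.leechV) Spor.leechU) → ℂ) = 22 by omega]; norm_num⟩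
  · obtain ⟨χ, hχ⟩ := McL.exists_252
    refine ⟨χ, ?_⟩
    rw [hχ]
    rcases hp with rfl | rfl | rfl | rfl <;> first | exact absurd rfl h11 | norm_num

end Cfsg.Agent.H852.IMLeech
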