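import Cfsg.Agent.H593.IMFrame
import Cfsg.Agent.S1634
import Cfsg.Agent.H852.IMLeech
import Cfsg.Agent.NotCT.Orders

/-!
# Itô-Michler for `McL` (helper852)

`p = 5`: Frame's theorem for the rank four action on 2025 points with subdegrees 1, 330, 462, 1232.
-/

set_option autoImplicit false
open Cfsg

namespace Cfsg.Agent.H852.IMMcL

open Cfsg.Agent.Leech.Basic Cfsg.Agent.Leech.Co0Elts
open MulAction Cfsg.Agent.H33 Cfsg.Agent.H593.IMFrame Cfsg.Agent.H713.Spor Cfsg.Agent.SporadicRecognition.HSRank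
  Cfsg.Agent.SporadicRecognition.TwoEmb Cfsg.Agent.SporadicRecognition.HSParam
  Cfsg.Agent.SporadicRecognition.McLAssemble Cfsg.Agent.SporadicRecognition.RankThreeOf

/-! ### arithmetic -/

theorem univ_four : ∀ i0 i j l : Fin 4, i0 ≠ i → i0 ≠ j → i0 ≠ l → i ≠ j → i ≠ l → j ≠ l →
    (Finset.univ : Finset (Fin 4)) = {i0, i, j, l} := by decide

theorem exists_fourth : ∀ i0 i j : Fin 4, i0 ≠ i → i0 ≠ j → i ≠ j →
    ∃ l, i0 ≠ l ∧ i ≠ l ∧ j ≠ l := by decide

/-- `d` and `2024 - 2 d` are not both allowed degrees. -/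
def test (d : ℕ) : Bool :=
  (898128000 % d != 0) || (d % 5 == 0) || (898128000 % (2024 - 2 * d) != 0) || ((2024 - 2 * d) % 5 == 0) ||
    ((2025 ^ 4 * (330 * 462 * 1232)) % (d * d * (2024 - 2 * d)) != 0)

theorem search_bool : (List.range 1013).all test = true := by
  decide +kernel

theorem search {d : ℕ} (hd : d < 1013) (h1 : d ∣ 898128000) (h2 : ¬ 5 ∣ d) (h3 : (2024 - 2 * d) ∣ 898128000)
    (h4 : ¬ 5 ∣ (2024 - 2 * d)) (h5 : (d * d * (2024 - 2 * d)) ∣ 2025 ^ 4 * (330 * 462 * 1232)) : False := by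
  have h := List.all_eq_true.1 search_bool d (List.mem_range.2 hd)
  simp only [test, Bool.or_eq_true, bne_iff_ne, beq_iff_eq, ne_eq, ← Nat.dvd_iff_mod_eq_zero] at h
  tauto

theorem inj_of {f : Fin 4 → ℕ} (h1 : ∀ i, f i ∣ 898128000) (h5 : ∀ i, ¬ 5 ∣ f i)
    {i0 : Fin 4} (h0 : f i0 = 1) (hne : ∀ i, i ≠ i0 → f i ≠ 1) (hs : ∑ i, f i = 2025)
    (hp : ∏ i, f i ∣ 2025 ^ 4 * (330 * 462 * 1232)) : Function.Injective f := by
  intro i j hij
  by_contra hne'
  by_cases hi : i = i0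
  · exact hne j (fun h => hne' (hi.trans h.symm)) (by rw [← hij, hi, h0])
  by_cases hj : j = i0
  · exact hne i hi (by rw [hij, hj, h0])
  obtain ⟨l, hl0, hli, hlj⟩ := exists_fourth i0 i j (Ne.symm hi) (Ne.symm hj) hne'
  have hu := univ_four i0 i j l (Ne.symm hi) (Ne.symm hj) hl0 hne' hli hlj
  have hsum : f i0 + (f i + (f j + f l)) = 2025 := by
    rw [← hs, hu, Finset.sum_insert (by simp [Ne.symm hi, Ne.symm hj, hl0]),
      Finset.sum_insert (by simp [hne', hli]), Finset.sum_pair hlj]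
  have hprod : f i0 * (f i * (f j * f l)) ∣ 2025 ^ 4 * (330 * 462 * 1232) := by
    rw [hu, Finset.prod_insert (by simp [Ne.symm hi, Ne.symm hj, hl0]),
      Finset.prod_insert (by simp [hne', hli]), Finset.prod_pair hlj] at hp
    exact hp
  rw [h0, ← hij] at hsum hprod
  have hl : f l = 2024 - 2 * f i := by omega
  have hpos : f l ≠ 0 := by
    intro h
    have := h1 l
    rw [h] at this
    norm_num at this
  refine search (d := f i) (by omega) (h1 i) (h5 i) (by rw [← hl]; exact h1 l) (by rw [← hl]; exact h5 l) ?_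
  rw [← hl, mul_assoc]
  rwa [one_mul] at hprod

/-- A linear character of a nonabelian simple group is trivial. -/
theorem linear_trivial {G : Type*} [Group G] [Finite G] [IsSimpleGroup G] (hG : ¬ (Nat.card G).Prime)
    {χ : G → ℂ} (hχ : IsIrrCharacter G χ) (h1 : χ 1 = 1) : χ = 1 := by
  obtain ⟨f, hf⟩ := Cfsg.Agent.Characters.Linear.exists_hom_of_isIrrCharacter hχ h1
  have hc : f.ker = ⊤ := by
    rcases (inferInstance : f.ker.Normal).eq_bot_or_eq_top with h | h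
    · exfalso
      have hcomm : ∀ a b : G, a * b = b * a := by
        intro a b
        have hinj := (MonoidHom.ker_eq_bot_iff f).1 h
        exact hinj (by rw [map_mul, map_mul, mul_comm])
      let _ : CommGroup G := { (inferInstance : Group G) with mul_comm := hcomm }
      exact hG IsSimpleGroup.prime_card
    · exact h
  rw [hf]
  funext x
  have : f x = 1 := by
    have hx : x ∈ f.ker := by rw [hc]; exact Subgroup.mem_top x
    exact hx
  simp [this]

/-! ### the action -/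

/-- The 2025 points. -/
def Pts (v w : ↥leechLattice) : Set ↥leechLattice := {x : ↥leechLattice | sqNorm (x : GolayPt → ℤ) = 32 ∧
  dotInt (v : GolayPt → ℤ) (x : GolayPt → ℤ) = 0 ∧ dotInt (w : GolayPt → ℤ) (x : GolayPt → ℤ) = 16}

theorem pts_inv (v w : ↥leechLattice) : ∀ g ∈ K v w, ∀ x ∈ Pts v w, g • x ∈ Pts v w := by
  rintro g ⟨hgv, hgw⟩ x ⟨hx1, hx2, hx3⟩
  refine ⟨?_, ?_, ?_⟩
  · rw [sqNorm_smul]; exact hx1
  · have := dotInt_smul g v x
    rw [show g • v = v from hgv] at this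
    rw [this]; exact hx2
  · have := dotInt_smul g w x
    rw [show g • w = w from hgw] at this
    rw [this]; exact hx3

theorem orbit_ncard (v w : ↥leechLattice) (x y : ↥(Pts v w)) :
    letI := act (K v w) (Pts v w) (pts_inv v w)
    (orbit (stabilizer ↥(K v w) x) y).ncard =
      (orbit ↥(stabilizer ↥Co0 v ⊓ stabilizer ↥Co0 w ⊓ stabilizer ↥Co0 (x : ↥leechLattice))
        (y : ↥leechLattice)).ncard := by
  letI := act (K v w) (Pts v w) (pts_inv v w)
  rw [← Set.ncard_image_of_injective _ (Subtype.val_injective : Function.Injective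
    (Subtype.val : ↥(Pts v w) → ↥leechLattice))]
  congr 1
  ext z
  constructor
  · rintro ⟨z', ⟨⟨g, hg⟩, rfl⟩, rfl⟩
    have hg' : g • x = x := hg
    exact ⟨⟨(g : ↥Co0), ⟨g.2, congrArg Subtype.val hg'⟩⟩, rfl⟩
  · rintro ⟨⟨g, ⟨hg1, hg2⟩⟩, rfl⟩
    exact ⟨(⟨⟨g, hg1⟩, Subtype.ext hg2⟩ : stabilizer ↥(K v w) x) • y, ⟨_, rfl⟩, rfl⟩

theorem sub_four {v w : ↥leechLattice} (hv : sqNorm (v : GolayPt → ℤ) = 32)
    (hw : sqNorm (w : GolayPt → ℤ) = 32) (hvw : dotInt (v : GolayPt → ℤ) (w : GolayPt → ℤ) = -8) :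
    letI := act (K v w) (Pts v w) (pts_inv v w)
    Nat.card ↥(Pts v w) = 2025 ∧
    ∃ (a : ↥(Pts v w)) (b : Fin 4 → ↥(Pts v w)), Sub ↥(K v w) ↥(Pts v w) a b ![1, 330, 462, 1232] := by
  letI := act (K v w) (Pts v w) (pts_inv v w)
  obtain ⟨h1, h2, h3⟩ := Cfsg.Agent.S1634.result v w hv hw hvw
  have hX : (Pts v w).ncard = 2025 := h1
  have hcard : Nat.card ↥(Pts v w) = 2025 := by rw [Nat.card_coe_set_eq, hX]
  obtain ⟨x, hx⟩ : (Pts v w).Nonempty := by
    rw [Set.nonempty_iff_ne_empty]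
    intro h
    rw [h, Set.ncard_empty] at hX
    norm_num at hX
  obtain ⟨y1, hy1, y2, hy2, y3, hy3, c1, c2, c3⟩ := h3 x hx
  refine ⟨hcard, ⟨x, hx⟩, ![⟨x, hx⟩, ⟨y1, hy1⟩, ⟨y2, hy2⟩, ⟨y3, hy3⟩], ⟨?_, ?_, ?_, ?_⟩⟩
  · refine ⟨fun p q => ?_⟩
    obtain ⟨g, g1, g2, g3⟩ := h2 p p.2 q q.2
    exact ⟨⟨g, ⟨g1, g2⟩⟩, Subtype.ext g3⟩
  · intro i
    fin_cases i
    · show (orbit (stabilizer ↥(K v w) (⟨x, hx⟩ : ↥(Pts v w))) (⟨x, hx⟩ : ↥(Pts v w))).ncard = 1
      rw [Set.ncard_eq_one]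
      refine ⟨⟨x, hx⟩, ?_⟩
      ext z
      rw [Set.mem_singleton_iff]
      constructor
      · rintro ⟨⟨g, hg⟩, rfl⟩
        exact hg
      · rintro rfl
        exact mem_orbit_self _
    · exact (orbit_ncard v w ⟨x, hx⟩ ⟨y1, hy1⟩).trans c1
    · exact (orbit_ncard v w ⟨x, hx⟩ ⟨y2, hy2⟩).trans c2
    · exact (orbit_ncard v w ⟨x, hx⟩ ⟨y3, hy3⟩).trans c3
  · decide
  · rw [hcard, Fin.sum_univ_four]
    rfl

/-- The joint stabilizer is simple of order 898128000. -/
theorem facts' : IsSimpleGroup ↥(K Spor.leechU (-(Spor.leechV + Spor.leechU))) ∧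
    Nat.card ↥(K Spor.leechU (-(Spor.leechV + Spor.leechU))) = 898128000 :=
  Cfsg.Agent.S0404.result _ _ norm_U norm_W dot_UW

theorem im_five : IM 5 ↥(K Spor.leechU (-(Spor.leechV + Spor.leechU))) := by
  classical
  obtain ⟨hs, hG⟩ := facts'
  set v := Spor.leechU with hv
  set w := -(Spor.leechV + Spor.leechU) with hw
  letI := act (K v w) (Pts v w) (pts_inv v w)
  have hfin : Finite ↥(K v w) := Nat.finite_of_card_ne_zero (by rw [hG]; norm_num)
  obtain ⟨hX, a, b, hsub⟩ := sub_four norm_U norm_W dot_UW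
  have hfX : Finite ↥(Pts v w) := Nat.finite_of_card_ne_zero (by rw [hX]; norm_num)
  obtain ⟨χ, f, D, h1, h2, h3, ⟨i0, h4, h4'⟩, h5, h6, h7⟩ := exists_degrees hsub
  by_contra hcon
  have hf : ∀ i, ¬ 5 ∣ f i := by
    intro i hi
    exact hcon (IM.of_apply_one (χ i).2 (h2 i) hi)
  have hN : ∏ i, (Nat.card ↥(Pts v w) * ![1, 330, 462, 1232] i) = 2025 ^ 4 * (330 * 462 * 1232) := by
    rw [hX, Fin.prod_univ_four]
    rfl
  rw [hN] at h6
  rw [hX] at h5
  rw [hG] at h3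
  have hinj : Function.Injective f := by
    refine inj_of h3 hf h4' ?_ h5 (Dvd.intro _ h6)
    intro i hi h
    have h8 : (χ i : ↥(K v w) → ℂ) = 1 := by
      refine linear_trivial ?_ (χ i).2 (by rw [h2 i, h]; norm_num)
      rw [hG]
      norm_num
    exact hi (h1 (Subtype.ext (h8.trans h4.symm)))
  obtain ⟨c, hc⟩ := h7 hinj
  have hp5 : Nat.Prime 5 := by norm_num
  have hf0 : ∏ i, f i ≠ 0 := by
    rw [Finset.prod_ne_zero_iff]
    intro i _ hi
    exact hf i (by rw [hi]; exact dvd_zero _)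
  have hc0 : c ≠ 0 := by
    rintro rfl
    rw [hc] at h6
    norm_num at h6
  have h9 : ¬ 5 ∣ ∏ i, f i := by
    rw [Prime.dvd_finsetProd_iff hp5.prime]
    rintro ⟨i, -, hi⟩
    exact hf i hi
  have h10 := congrArg (fun n => n.factorization 5) h6
  simp only [hc] at h10
  rw [Nat.factorization_mul hf0 (by positivity), Nat.factorization_mul hc0 hc0, Finsupp.add_apply,
    Finsupp.add_apply, Nat.factorization_eq_zero_of_not_dvd h9] at h10
  have h11 : (2025 ^ 4 * (330 * 462 * 1232) : ℕ).factorization 5 = 9 := by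
    rw [show (2025 ^ 4 * (330 * 462 * 1232) : ℕ) = 5 ^ 9 * 1617099319813824 by norm_num,
      Nat.factorization_mul (by norm_num) (by norm_num), Nat.factorization_pow, Finsupp.add_apply,
      Nat.factorization_eq_zero_of_not_dvd (n := 1617099319813824) (p := 5) (by norm_num)]
    simp [Nat.Prime.factorization_self hp5]
  omega

theorem im_mcl {S : Type*} [Group S] (h : Spor.IsoMcL S) {p : ℕ} [hp' : Fact p.Prime] (hp : p ∣ Nat.card S) :
    IM p S := by
  rw [Cfsg.Agent.NotCT.Orders.mcl h] at hp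
  have hm := Cfsg.Agent.H852.IMSuz.prime_cases' hp'.out [2, 3, 5, 7, 11] (by decide) 7 hp (by norm_num)
  by_cases h5 : p = 5
  · subst h5
    obtain ⟨e⟩ := h
    have hK : K (-Spor.leechV) Spor.leechU = K Spor.leechU (-(Spor.leechV + Spor.leechU)) := by
      rw [← k_neg, k_eq']
    exact IM.of_equiv ((e.trans McL.mclEquiv).trans (MulEquiv.subgroupCongr hK)) im_five
  · refine Cfsg.Agent.H852.IMLeech.im_mcl_of h ?_
    simp only [List.mem_cons, List.not_mem_nil, or_false] at hm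
    tauto

end Cfsg.Agent.H852.IMMcL
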