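import Cfsg.Agent.H852.IMHSThree
import Cfsg.Agent.H852.IMLeech
import Cfsg.Agent.NotCT.Orders

/-!
# `HS`: an irreducible character of degree divisible by 5 (helper852)

An element `x` of order 5 with `150 ∣ #C(x) ≤ 600` and six Sylow 5-subgroups of `C(x)`.
-/

set_option autoImplicit false
open Cfsg

namespace Cfsg.Agent.H852.IMHS

open Cfsg.Agent.H33 Cfsg.Agent.H852.IMPerm Cfsg.Agent.H852.IMLocal Subgroup Equiv
open Cfsg.Agent.SporadicA.PermTab Cfsg.Agent.HN.HS100

section five

/-- an element of order 5 -/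
def t5 : ℕ := 0xae0ac0d84c030038090410200180e04406e024028040461641103108e1840505c0780c81f81500012c1602106c1400384d04c0801483903205c1282d0041241f00c0540bc2883d0700582505a0481541a0010a410c230130101082a05b09018c0780305c1880583b09e138140330341002283501a14c2b0300be1740e85e0c00440a05804e0780f83a
/-- order 5 -/
def ua : ℕ := 0x5a1782d0340b609c078300860e81404c0940841c8070b2054310130040b00480c0321840a05103c0ec2385c0aa0901e8560660fc2000b06a15c2f8160640142480a09606c0d01205c0442700001c0f0268420900a80c0530380ac208260620e00200100c0201f01006e11411046046034278360b01482205d0400742a00305205c1286003e0bc28063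
/-- order 5 -/
def ub : ℕ := 0xbc0602501a0720981382b05418c0683a01c1382204706c03c300410680b40e0620a002824045018108010170021701205902a0502d83108c0f4288400a607c02835008174038200240bc2681e0761600805a03a0a011019092130278330220200d85606417c258250520e0160540161481b85505c10c0b03e07800c3083f02615c1080001208c03030
/-- order 3 -/
def us : ℕ := 0x4e040308080be0a82400e0780b4220570a40b02e01e00a1601a03d0141380085e026074288470ba090178370a00c0298280441182181a076100310560b20c4128490c003c1482601a0b80483806a1301b03a0081081583e0280300104b09e00c0302103616c0c81809a05800007040054190390221542283f01607c2d033046128208630a80700b812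
/-- order 2 -/
def ut : ℕ := 0xa148110090240f80580f0a61101582c02801c0f0110b61882702e03e1441d81d0641181a0470901280205a07a06c068180181782182f09a0a01c0390660a40404906e12c0b026078140128580b20081b03a0340c01681c0201840300e09e1542602408409c050400020c40005700617c2a0230b80802083f0ba064300350ac084318450260a80b815
/-- the vertices in increasing order of their rows, restricted to the base -/
def tO : ℕ := 0x6c0fc2584901e0382683b00210c230480ba02c038100a40b00a0570bc0741a86006e0cc2d05904c0542f81207807c0c80a01a14c1d04f0b0188000380c20880b80c0420901a05109c1282a01308e0c80286308216c2802e02c0c41484504e0f41c82504017004808022158018230aa0782603e0880b41582a0040c00d81c00c1081402f00806820018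
/-- its inverse -/
def tR : ℕ := 0x500e81b84c08a13c2b81a04c1242403b0a00580982d07c14c180250780bc2e8110c20b8300580561641000f0b4018138010c40400f0430b80f40e83809618c268310940a81100a0080900705201a0301080503e11c0e0320280d81981b084048270080120082080006a08c230510581100b8540be1781f8340ac1000c8180aa01c1480302a02c2d839

theorem in5x : InG Q t5 := word_of (L := [tW, tY, tW, tY, tW, tW, tW, tW, tX, tY, tW, tY, tW, tY, tW, tW, tW, tW, tX, tY])
  (mem3 inX inY inW) (by intro P; simp only [List.mem_cons, List.not_mem_nil, or_false]; tauto) (by decide +kernel)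
theorem inua : InG Q ua := word_of (L := [tX, tW, tX, tY, tY, tY, tW, tW, tY, tY, tWi, tWi, tYi, tWi, tYi])
  mem5 (by intro P; simp only [List.mem_cons, List.not_mem_nil, or_false]; tauto) (by decide +kernel)
theorem inub : InG Q ub := word_of (L := [tW, tX, tY, tW, tY, tY, tY, tW, tY, tW, tY, tWi, tYi, tWi, tWi, tX, tYi])
  mem5 (by intro P; simp only [List.mem_cons, List.not_mem_nil, or_false]; tauto) (by decide +kernel)
theorem inus : InG Q us := word_of (L := [tY, tY, tX, tY, tX, tY, tX, tY, tX, tWi, tYi, tWi, tX, tWi, tWi, tWi, tX, tYi])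
  mem5 (by intro P; simp only [List.mem_cons, List.not_mem_nil, or_false]; tauto) (by decide +kernel)
theorem inut : InG Q ut := word_of (L := [tY, tX, tW, tX, tY, tX, tW, tX, tW, tY, tX, tWi, tWi, tYi, tYi, tYi, tYi, tX])
  mem5 (by intro P; simp only [List.mem_cons, List.not_mem_nil, or_false]; tauto) (by decide +kernel)

/-- base -/
def bs5 : List (ℕ × ℕ) := [(38, 1), (54, 1), (63, 1), (67, 1), (1, 3), (47, 1), (21, 1), (12, 1), (45, 1), (2, 2), (4, 1), (8, 1), (14, 1)]

theorem chain5 : chainB 100 adjA [0, 58, 23, 79, 71] bs5 = true := by decide +kernel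
theorem dist5 : chkDist 100 adjA (maskL (lastF [0, 58, 23, 79, 71] bs5)) tR tO = true := by decide +kernel

/-- The centralizer of `x` has order at most 600. -/
theorem card_le_600 {x : Q} (hx : ∀ i : Fin 100, ((x : Perm (Fin 100)) i : ℕ) = lk t5 i) :
    Nat.card (centralizer ({x} : Set Q)) ≤ 600 := by
  set H : Subgroup (Perm (Fin 100)) := (centralizer ({x} : Set Q)).map Q.subtype with hH
  have h1 : Nat.card (centralizer ({x} : Set Q)) = Nat.card H :=
    Nat.card_congr ((centralizer ({x} : Set Q)).equivMapOfInjective _ Q.subtype_injective).toEquiv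
  have hcom : ∀ g ∈ H, ∀ i : Fin 100, g i = i → g ((x : Perm (Fin 100)) i) = (x : Perm (Fin 100)) i := by
    rintro _ ⟨g, hg, rfl⟩ i hi
    have h4 : (g : Perm (Fin 100)) ((x : Perm (Fin 100)) i) = (x : Perm (Fin 100)) ((g : Perm (Fin 100)) i) :=
      congrArg (fun z : Q => (z : Perm (Fin 100)) i) (mem_centralizer_singleton_iff.1 hg)
    show (g : Perm (Fin 100)) ((x : Perm (Fin 100)) i) = _
    rw [h4]
    exact congrArg _ hi
  have hxi : ∀ i j : Fin 100, lk t5 i = j → (x : Perm (Fin 100)) i = j := fun i j h => Fin.ext ((hx i).trans h)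
  have hle : H ≤ autG 100 adjA := by
    rintro _ ⟨g, -, rfl⟩
    exact Q_le g.2
  have h6 : Nat.card (ps H 0) ≤ prodC bs5 := by
    refine card_le_of_chain bs5 [0, 58, 23, 79, 71] (ps H 0) ((ps_le _ _).trans hle) ?_ chain5
      (fun g hg h => eq_one_of_dist dist5 g hg h)
    have e0 : ∀ g ∈ ps H 0, g 0 = 0 := fun g hg => hg.2
    have e1 : ∀ g ∈ ps H 0, g 58 = 58 := fun g hg => by
      have := hcom g hg.1 0 (e0 g hg)
      rwa [hxi 0 58 (by decide +kernel)] at this
    have e2 : ∀ g ∈ ps H 0, g 23 = 23 := fun g hg => by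
      have := hcom g hg.1 58 (e1 g hg)
      rwa [hxi 58 23 (by decide +kernel)] at this
    have e3 : ∀ g ∈ ps H 0, g 79 = 79 := fun g hg => by
      have := hcom g hg.1 23 (e2 g hg)
      rwa [hxi 23 79 (by decide +kernel)] at this
    have e4 : ∀ g ∈ ps H 0, g 71 = 71 := fun g hg => by
      have := hcom g hg.1 79 (e3 g hg)
      rwa [hxi 79 71 (by decide +kernel)] at this
    intro f hf
    simp only [List.mem_cons, List.not_mem_nil, or_false] at hf
    rcases hf with rfl | rfl | rfl | rfl | rfl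
    · exact ⟨by norm_num, fun g hg i hi => by rw [show i = 0 from Fin.ext hi]; exact e0 g hg⟩
    · exact ⟨by norm_num, fun g hg i hi => by rw [show i = 58 from Fin.ext hi]; exact e1 g hg⟩
    · exact ⟨by norm_num, fun g hg i hi => by rw [show i = 23 from Fin.ext hi]; exact e2 g hg⟩
    · exact ⟨by norm_num, fun g hg i hi => by rw [show i = 79 from Fin.ext hi]; exact e3 g hg⟩
    · exact ⟨by norm_num, fun g hg i hi => by rw [show i = 71 from Fin.ext hi]; exact e4 g hg⟩
  rw [h1]
  exact card_le H 0 Finset.univ (m := 100) (fun _ _ => Finset.mem_univ _) (by simp) h6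

/-- The arithmetic of the centralizer. -/
theorem arith {c : ℕ} (h0 : 0 < c) (h1 : c ≤ 600) (h2 : 2 ∣ c) (h3 : 3 ∣ c) (h5 : 25 ∣ c) :
    ¬ 5 ^ 3 ∣ c ∧ c.factorization 5 = 2 ∧
    ∀ d : ℕ, d ∣ c → ¬ 5 ∣ d → d ≡ 1 [MOD 5] → d = 1 ∨ d = 5 + 1 := by
  obtain ⟨m, rfl⟩ := h5
  have hm0 : 0 < m := by omega
  have hm1 : m ≤ 24 := by omega
  have hm2 : 2 ∣ m := by omega
  have hm3 : 3 ∣ m := by omega
  have hm5 : ¬ 5 ∣ m := by omega
  refine ⟨?_, ?_, ?_⟩
  · intro h
    apply hm5
    obtain ⟨q, hq⟩ := h
    have hq' : 25 * m = 125 * q := hq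
    exact ⟨q, by omega⟩
  · rw [Nat.factorization_mul (by norm_num) (by omega), show (25 : ℕ) = 5 ^ 2 by norm_num, Nat.factorization_pow]
    simp [Nat.Prime.factorization_self (show Nat.Prime 5 by norm_num), Nat.factorization_eq_zero_of_not_dvd hm5]
  · intro d hd hd5 hd1
    have hc : Nat.Coprime d 25 := by
      rw [show (25 : ℕ) = 5 ^ 2 by norm_num]
      exact ((Nat.Prime.coprime_iff_not_dvd (by norm_num)).2 hd5).symm.pow_right 2
    have h6 : d ∣ m := hc.dvd_of_dvd_mul_left hd
    have h7 : d ≤ m := Nat.le_of_dvd hm0 h6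
    have h8 : d % 5 = 1 % 5 := hd1
    have h9 : d = 1 ∨ d = 6 ∨ d = 11 ∨ d = 16 ∨ d = 21 := by omega
    clear hc hd hd5 hd1 h8 h0 h1 h2 h3
    rcases h9 with h | h | h | h | h
    · exact Or.inl h
    · exact Or.inr h
    · subst h; exfalso; omega
    · subst h; exfalso; omega
    · subst h; exfalso; omega

theorem im_five : IM 5 Spor.HS := by
  obtain ⟨⟨e⟩, -⟩ := Cfsg.Agent.HN.AutHS.nonempty_Q
  refine IM.of_equiv e.symm ?_
  have hQ : Nat.card Q = 44352000 := Cfsg.Agent.HN.AutBound.card_Q
  have : Fact (Nat.Prime 5) := ⟨by norm_num⟩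
  have : Fact (Nat.Prime 3) := ⟨by norm_num⟩
  have : Fact (Nat.Prime 2) := ⟨by norm_num⟩
  obtain ⟨x, hx⟩ := exists_el in5x
  obtain ⟨a, ha⟩ := exists_el inua
  obtain ⟨b, hb⟩ := exists_el inub
  obtain ⟨s, hs⟩ := exists_el inus
  obtain ⟨t, ht⟩ := exists_el inut
  have hxo : orderOf x = 5 := orderOf_of hx (by decide +kernel) 0 (by decide +kernel)
  have hao : orderOf a = 5 := orderOf_of ha (by decide +kernel) 0 (by decide +kernel)
  have hbo : orderOf b = 5 := orderOf_of hb (by decide +kernel) 0 (by decide +kernel)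
  have hso : orderOf s = 3 := orderOf_of hs (by decide +kernel) 0 (by decide +kernel)
  have hto : orderOf t = 2 := orderOf_of ht (by decide +kernel) 0 (by decide +kernel)
  have hax : a * x = x * a := commute_of ha hx (by decide +kernel)
  have hbx : b * x = x * b := commute_of hb hx (by decide +kernel)
  have hsx : s * x = x * s := commute_of hs hx (by decide +kernel)
  have htx : t * x = x * t := commute_of ht hx (by decide +kernel)
  set C := centralizer ({x} : Set Q) with hC
  let x' : C := ⟨x, mem_centralizer_singleton_iff.2 rfl⟩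
  let a' : C := ⟨a, mem_centralizer_singleton_iff.2 hax⟩
  let b' : C := ⟨b, mem_centralizer_singleton_iff.2 hbx⟩
  let s' : C := ⟨s, mem_centralizer_singleton_iff.2 hsx⟩
  let t' : C := ⟨t, mem_centralizer_singleton_iff.2 htx⟩
  have hx'o : orderOf x' = 5 := by rw [← Subgroup.orderOf_coe]; exact hxo
  have ha'o : orderOf a' = 5 := by rw [← Subgroup.orderOf_coe]; exact hao
  have hb'o : orderOf b' = 5 := by rw [← Subgroup.orderOf_coe]; exact hbo
  have h2 : 2 ∣ Nat.card C := by
    have h := orderOf_dvd_natCard t'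
    rwa [← Subgroup.orderOf_coe, show ((t' : C) : Q) = t from rfl, hto] at h
  have h3 : 3 ∣ Nat.card C := by
    have h := orderOf_dvd_natCard s'
    rwa [← Subgroup.orderOf_coe, show ((s' : C) : Q) = s from rfl, hso] at h
  -- the central subgroup
  have hcen : ∀ c : C, c * x' = x' * c := fun c => Subtype.ext (mem_centralizer_singleton_iff.1 c.2)
  have hN : (zpowers x').Normal := by
    refine ⟨fun n hn g => ?_⟩
    obtain ⟨k, rfl⟩ := mem_zpowers_iff.1 hn
    have h : g * x' ^ k = x' ^ k * g := ((Commute.zpow_right (hcen g) k) : Commute g (x' ^ k))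
    rw [h, mul_inv_cancel_right]
    exact ⟨k, rfl⟩
  have hna : a' ∉ zpowers x' := by
    intro h
    -- then `a` would commute with `b`
    obtain ⟨k, hk⟩ := mem_zpowers_iff.1 h
    have h4 : Commute b' a' := by
      rw [← hk]
      exact Commute.zpow_right (hcen b') k
    have h5 : b * a = a * b := congrArg (fun z : C => (z : Q)) (h4 : b' * a' = a' * b')
    have h6 : ((b : Perm (Fin 100)) ((a : Perm (Fin 100)) (0 : Fin 100)) : ℕ) = (a : Perm (Fin 100)) ((b : Perm (Fin 100)) (0 : Fin 100)) :=
      congrArg (fun z : Q => (((z : Perm (Fin 100)) (0 : Fin 100) : Fin 100) : ℕ)) h5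
    rw [hb, ha, ha, hb] at h6
    revert h6
    decide +kernel
  have h5 : 25 ∣ Nat.card C := by
    have h4 : Nat.card C = Nat.card (C ⧸ zpowers x') * Nat.card (zpowers x') :=
      Subgroup.card_eq_card_quotient_mul_card_subgroup _
    rw [Nat.card_zpowers, hx'o] at h4
    have h6 : orderOf (QuotientGroup.mk' (zpowers x') a') = 5 := by
      refine orderOf_eq_prime ?_ ?_
      · rw [← map_pow, ← ha'o, pow_orderOf_eq_one, map_one]
      · intro h
        exact hna ((QuotientGroup.eq_one_iff a').1 h)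
    have h7 := orderOf_dvd_natCard (QuotientGroup.mk' (zpowers x') a')
    rw [h6] at h7
    rw [h4]
    exact Nat.mul_dvd_mul h7 dvd_rfl
  have hle : Nat.card C ≤ 600 := card_le_600 hx
  obtain ⟨-, hfac, hsyl⟩ := arith Nat.card_pos hle h2 h3 h5
  refine im_of_cent x hxo ?_ (by rw [← hC, hfac]) (by rw [hQ]; norm_num)
  refine im_of_sylow (card_sylow_of ?_ hsyl)
  intro h
  have hss : Subsingleton (Sylow 5 C) := (Nat.card_eq_one_iff_unique.1 h).1
  obtain ⟨P⟩ : Nonempty (Sylow 5 C) := inferInstance
  have hPc : Nat.card P = 5 ^ 2 := by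
    rw [P.card_eq_multiplicity, hfac]
  have hmem : ∀ g : C, orderOf g = 5 → g ∈ (P : Subgroup C) := by
    intro g hg
    have h4 : IsPGroup 5 (zpowers g) := IsPGroup.of_card (n := 1) (by rw [Nat.card_zpowers, hg, pow_one])
    obtain ⟨R, hR⟩ := h4.exists_le_sylow
    rw [Subsingleton.elim P R]
    exact hR (mem_zpowers g)
  have hcomm := IsPGroup.commutative_of_card_eq_prime_sq hPc
  have h4 : (⟨b', hmem b' hb'o⟩ : P) * ⟨a', hmem a' ha'o⟩ = ⟨a', hmem a' ha'o⟩ * ⟨b', hmem b' hb'o⟩ := hcomm _ _
  have h5 : b * a = a * b := congrArg (fun z : P => ((z : C) : Q)) h4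
  have h6 : ((b : Perm (Fin 100)) ((a : Perm (Fin 100)) (0 : Fin 100)) : ℕ) = (a : Perm (Fin 100)) ((b : Perm (Fin 100)) (0 : Fin 100)) :=
    congrArg (fun z : Q => (((z : Perm (Fin 100)) (0 : Fin 100) : Fin 100) : ℕ)) h5
  rw [hb, ha, ha, hb] at h6
  revert h6
  decide +kernel

end five

theorem im_hs {S : Type*} [Group S] (h : Spor.IsoHS S) {p : ℕ} [hp' : Fact p.Prime] (hp : p ∣ Nat.card S) :
    IM p S := by
  rw [Cfsg.Agent.NotCT.Orders.hs h] at hp
  have hm := IMSuz.prime_cases' hp'.out [2, 3, 5, 7, 11] (by decide) 9 hp (by norm_num)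
  simp only [List.mem_cons, List.not_mem_nil, or_false] at hm
  by_cases h3 : p = 3
  · subst h3
    obtain ⟨e⟩ := h
    exact IM.of_equiv e im_three
  by_cases h5 : p = 5
  · subst h5
    obtain ⟨e⟩ := h
    exact IM.of_equiv e im_five
  exact IMLeech.im_hs_of h (by omega)

end Cfsg.Agent.H852.IMHS
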