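import Cfsg.Agent.H690.Spor.RankThree
import Cfsg.Agent.H33.IM

/-!
# Permutation groups of rank 3: degrees divisible by `p` (helper852)

`chk k l p = true` : every solution of Frame's equations for rank 3 with subdegrees `1, k, l` has `p ∣ f * g`.

* `im_of_chk`, `im_of_index` : then the group has an irreducible character of degree divisible by `p`.
-/

set_option autoImplicit false

open Cfsg

namespace Cfsg.Agent.H852.IMRankThree

open Cfsg.Agent.H33 Cfsg.Agent.H690.Spor.RankThree

/-- Every solution of Frame's equations has `p ∣ f * g`. -/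
def chk (k l p : ℕ) : Bool := (List.range ((k + l) / 2 + 1)).all fun f =>
  (f == 0) || !(((1 + k + l) * k * l) % (f * (k + l - f)) == 0) ||
    (let D := ((1 + k + l) * k * l) / (f * (k + l - f)); !(Nat.sqrt D * Nat.sqrt D == D)) ||
    ((f * (k + l - f)) % p == 0)

theorem chk_spec {k l p : ℕ} (h : chk k l p = true) {f g D : ℕ} (hfg : f + g = k + l) (hle : f ≤ g)
    (hf : f ≠ 0) (hprod : f * g * D = (1 + k + l) * k * l) (hD : IsSquare D) : p ∣ f * g := by
  unfold chk at h
  rw [List.all_eq_true] at h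
  have h1 := h f (List.mem_range.2 (by omega))
  have hg : k + l - f = g := by omega
  have hpos : 0 < f * g := Nat.mul_pos (by omega) (by omega)
  have h2 : (1 + k + l) * k * l % (f * g) = 0 := by
    rw [← hprod]
    exact Nat.mul_mod_right _ _
  have h3 : (1 + k + l) * k * l / (f * g) = D := by
    rw [← hprod]
    exact Nat.mul_div_cancel_left _ hpos
  obtain ⟨m, hm⟩ := hD
  have h4 : Nat.sqrt D * Nat.sqrt D = D := by
    rw [hm, Nat.sqrt_eq]
  simp only [hg, h2, h3, h4] at h1
  simp [hf] at h1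
  exact Nat.dvd_of_mod_eq_zero h1

theorem im_of_chk {G X : Type*} [Group G] [MulAction G X] [Finite G] {R : X → X → Prop} {k l : ℕ}
    (h : R3 G X R k l) (hodd : Odd (k + l) ∨ ¬ (k + l) / 2 ∣ Nat.card G) {p : ℕ} (hp : p.Prime)
    (hc : chk k l p = true) : IM p G := by
  classical
  have hn := h.cardn
  have hfin : Finite X := by
    by_contra hcon
    rw [not_finite_iff_infinite] at hcon
    rw [Nat.card_eq_zero_of_infinite] at hn
    omega
  have := Fintype.ofFinite X
  obtain ⟨χ₁, χ₂, f, g, D, hf, hg, -, hfg, hprod, hsq⟩ := h.frame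
  have hprod0 : (1 + k + l) * k * l ≠ 0 := by
    have := h.k0
    have := h.l0
    positivity
  have hne : f ≠ g := by
    rintro rfl
    rcases hodd with h1 | h1
    · rw [← hfg] at h1
      exact (Nat.not_odd_iff_even.2 ⟨f, rfl⟩) h1
    · apply h1
      have h2 : (k + l) / 2 = f := by omega
      have h3 : charDegree (χ₁ : G → ℂ) = f := Cfsg.Agent.Blocks.Basic.charDegree_of_eq hf
      rw [h2, ← h3]
      exact Cfsg.Agent.Blocks.Knorr.charDegree_dvd χ₁.2
  have hf0 : f ≠ 0 := by
    rintro rfl
    rw [zero_mul, zero_mul] at hprod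
    exact hprod0 hprod.symm
  have hg0 : g ≠ 0 := by
    rintro rfl
    rw [mul_zero, zero_mul] at hprod
    exact hprod0 hprod.symm
  have key : p ∣ f * g := by
    rcases le_total f g with hle | hle
    · exact chk_spec hc hfg hle hf0 hprod (hsq hne)
    · rw [mul_comm]
      exact chk_spec hc (by omega) hle hg0 (by rw [mul_comm g f]; exact hprod) (hsq hne)
  rcases hp.dvd_mul.1 key with h1 | h1
  · exact IM.of_apply_one χ₁.2 hf h1
  · exact IM.of_apply_one χ₂.2 hg h1

theorem im_of_index {G : Type*} [Group G] [Finite G] (H : Subgroup G) {k l : ℕ} (hi : H.index = 1 + k + l)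
    (ho : ∃ q₁ q₂ : G ⧸ H, (MulAction.orbit H q₁).ncard = k ∧ (MulAction.orbit H q₂).ncard = l)
    (hk : 1 < k) (hl : 1 < l) (hkl : k ≠ l) (hodd : Odd (k + l) ∨ ¬ (k + l) / 2 ∣ Nat.card G)
    {p : ℕ} (hp : p.Prime) (hc : chk k l p = true) : IM p G := by
  obtain ⟨q₁, q₂, h1, h2⟩ := ho
  obtain ⟨R, h⟩ := R3.of_index H hi h1 h2 hk hl hkl
  exact im_of_chk h hodd hp hc

end Cfsg.Agent.H852.IMRankThree
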