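import Cfsg.Agent.H139.RealB0.Crit
import Cfsg.Agent.H706.RealBasic
import Cfsg.Agent.H593.IMFrame
import Cfsg.Agent.H690.Spor.RankThree

/-!
# `HasReal p G` from rank three actions, actions with distinct subdegrees, and words in involutions (helper852)

* `hasReal_of_R3`, `hasReal_of_sub`, `hasReal_of_index`, `hasReal_of_two` : `G` acts on `X` with rank three
  (`H690.Spor.RankThree.R3`), with pairwise distinct subdegrees (`H593.IMFrame.Sub`), on the cosets of `H` with pairwise
  distinct orbit sizes, 2-transitively; and `p ∣ |X|`.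
* `hasReal_of_invol` : two involutions whose product moves a point with period divisible by `p`.
-/

set_option autoImplicit false
open Cfsg

namespace Cfsg.Agent.H852.RealRank

open Cfsg.Agent.H702.RealB0 Cfsg.Agent.H139.RealB0.Crit Cfsg.Agent.H593.IMFrame

universe u v

section actions

variable {G : Type u} [Group G] [Finite G] {p : ℕ}

theorem hasReal_of_R3 {X : Type v} [MulAction G X] {R : X → X → Prop} {k l : ℕ}
    (h : Cfsg.Agent.H690.Spor.RankThree.R3 G X R k l) (hp : p ∣ Nat.card X) : HasReal p G := by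
  have hn := h.cardn
  have hne : Nonempty X := by
    by_contra hc
    rw [not_nonempty_iff] at hc
    rw [Nat.card_of_isEmpty] at hn
    omega
  obtain ⟨x₀⟩ := hne
  refine of_symm_action X x₀ hp fun x y => ?_
  by_cases hxy : x = y
  · subst hxy
    exact ⟨1, one_smul _ _, one_smul _ _⟩
  by_cases hR : R x y
  · exact h.one x y y x hR (h.symm _ _ hR)
  · exact h.two x y y x hxy hR (Ne.symm hxy) fun hc => hR (h.symm _ _ hc)

theorem hasReal_of_sub {X : Type u} [MulAction G X] [Finite X] {r : ℕ} {a : X} {b : Fin r → X} {k : Fin r → ℕ}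
    (h : Sub G X a b k) (hp : p ∣ Nat.card X) : HasReal p G := by
  refine of_symm_action X a hp fun x y => ?_
  obtain ⟨i, hi⟩ := h.exists_rel x y
  obtain ⟨g₁, h1, h2⟩ := hi
  obtain ⟨g₂, h3, h4⟩ := h.symm (⟨g₁, h1, h2⟩ : Rel G a (b i) x y)
  refine ⟨g₂ * g₁⁻¹, ?_, ?_⟩
  · rw [mul_smul, ← h1, inv_smul_smul, h3]
  · rw [mul_smul, ← h2, inv_smul_smul, h4]

theorem hasReal_of_index {H : Subgroup G} {r : ℕ} {q : Fin r → G ⧸ H} {k : Fin r → ℕ}
    (hk : ∀ i, (MulAction.orbit H (q i)).ncard = k i) (hinj : Function.Injective k)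
    (hsum : ∑ i, k i = H.index) (hp : p ∣ H.index) : HasReal p G :=
  hasReal_of_sub (Sub.of_quotient H q hk hinj hsum) (by rwa [← Subgroup.index_eq_card])

theorem hasReal_of_two {X : Type v} [MulAction G X] [Nonempty X] (h : MulAction.IsMultiplyPretransitive G X 2)
    (hp : p ∣ Nat.card X) : HasReal p G := by
  obtain ⟨x₀⟩ := (inferInstance : Nonempty X)
  refine of_symm_action X x₀ hp fun x y => ?_
  by_cases hxy : x = y
  · subst hxy
    exact ⟨1, one_smul _ _, one_smul _ _⟩
  obtain ⟨g, h1, h2⟩ := (MulAction.is_two_pretransitive_iff).1 h hxy (Ne.symm hxy)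
  exact ⟨g, h1, h2⟩

end actions

section words

theorem dvd_of_period {X : Type*} {σ : Equiv.Perm X} {p k : ℕ} (hp : p.Prime) {i : X}
    (h1 : (σ ^ (p * k)) i = i) (h2 : (σ ^ k) i ≠ i) : p ∣ orderOf σ := by
  by_contra hc
  apply h2
  have hd : Function.minimalPeriod σ i ∣ p * k := by
    refine Function.IsPeriodicPt.minimalPeriod_dvd ?_
    show (σ^[p * k]) i = i
    rw [← Equiv.Perm.coe_pow]
    exact h1
  have ho : Function.minimalPeriod σ i ∣ orderOf σ := by
    refine Function.IsPeriodicPt.minimalPeriod_dvd ?_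
    show (σ^[orderOf σ]) i = i
    rw [← Equiv.Perm.coe_pow, pow_orderOf_eq_one]
    rfl
  have hcop : Nat.Coprime (Function.minimalPeriod σ i) p := by
    refine ((Nat.Prime.coprime_iff_not_dvd hp).2 fun h => hc (h.trans ho)).symm
  have h3 : Function.minimalPeriod σ i ∣ k := hcop.dvd_of_dvd_mul_left hd
  have h4 : Function.IsPeriodicPt σ k i := (Function.isPeriodicPt_iff_minimalPeriod_dvd).2 h3
  rw [Equiv.Perm.coe_pow]
  exact h4

theorem hasReal_of_invol {G : Type u} [Group G] [Finite G] {p : ℕ} [hp : Fact p.Prime] {X : Type*}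
    (ρ : G →* Equiv.Perm X) {s t : G} (hs : s * s = 1) (ht : t * t = 1) {k : ℕ} {i : X}
    (h1 : ((ρ (s * t)) ^ (p * k)) i = i) (h2 : ((ρ (s * t)) ^ k) i ≠ i) : HasReal p G := by
  refine Cfsg.Agent.H706.RealB.hasReal_of_isConj_inv (g := s * t)
    ((dvd_of_period hp.out h1 h2).trans (orderOf_map_dvd ρ _)) ?_
  have hs' : s⁻¹ = s := inv_eq_of_mul_eq_one_right hs
  have ht' : t⁻¹ = t := inv_eq_of_mul_eq_one_right ht
  rw [isConj_iff]
  refine ⟨s, ?_⟩
  rw [mul_inv_rev, hs', ht', ← mul_assoc, hs, one_mul]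

variable {G : Type u} [Group G] {ι : Type*} (γ : ι → G)

/-- The word of a conjugate of a generator. -/
def pal (w : List ι) (x : ι) : List ι := w ++ x :: w.reverse

theorem map_prod_reverse (h : ∀ x, γ x * γ x = 1) (w : List ι) :
    (w.reverse.map γ).prod = ((w.map γ).prod)⁻¹ := by
  induction w with
  | nil => simp
  | cons x w ih =>
    rw [List.reverse_cons, List.map_append, List.prod_append, ih]
    simp only [List.map_cons, List.map_nil, List.prod_cons, List.prod_nil, mul_one, mul_inv_rev]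
    rw [inv_eq_of_mul_eq_one_right (h x)]

theorem pal_sq (h : ∀ x, γ x * γ x = 1) (w : List ι) (x : ι) :
    ((pal w x).map γ).prod * ((pal w x).map γ).prod = 1 := by
  unfold pal
  rw [List.map_append, List.prod_append, List.map_cons, List.prod_cons, map_prod_reverse γ h]
  have h1 := h x
  calc (w.map γ).prod * (γ x * ((w.map γ).prod)⁻¹) * ((w.map γ).prod * (γ x * ((w.map γ).prod)⁻¹)) =
      (w.map γ).prod * (γ x * γ x) * ((w.map γ).prod)⁻¹ := by group
    _ = 1 := by rw [h1]; group

/-- **Criterion**: generators which are involutions (or trivial); `y` times a conjugate of `x` has a cycle on a point of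
length divisible by `p`. -/
theorem hasReal_of_pal [Finite G] {p : ℕ} [Fact p.Prime] (h : ∀ x, γ x * γ x = 1) {X : Type*}
    (ρ : G →* Equiv.Perm X) (w : List ι) (x y : ι) (k : ℕ) (i : X)
    (h1 : ((ρ (((y :: pal w x).map γ).prod)) ^ (p * k)) i = i)
    (h2 : ((ρ (((y :: pal w x).map γ).prod)) ^ k) i ≠ i) : HasReal p G := by
  rw [List.map_cons, List.prod_cons] at h1 h2
  exact hasReal_of_invol ρ (h y) (pal_sq γ h w x) h1 h2

end words

end Cfsg.Agent.H852.RealRank
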