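import Cfsg.Agent.H852.IMLocal
import Cfsg.Agent.H852.IMSuz
import Cfsg.Agent.KFacts.J2.Facts

/-!
# Itô-Michler for `J2` (helper852)

`p = 5` : `C(w) / ⟨w⟩ ≅ A₅` for some element `w` of order 5.
-/

set_option autoImplicit false
open Cfsg

namespace Cfsg.Agent.H852.IMJTwo

open Cfsg.Agent.H33 Cfsg.Agent.H852.IMPerm Cfsg.Agent.H852.IMLocal Subgroup
open Cfsg.Agent.J2Type.Base Cfsg.Agent.J2Type.CentU Cfsg.Agent.J2Type.Cent5

universe u

instance fact_five : Fact (Nat.Prime 5) := ⟨by norm_num⟩

/-- The factorization of an explicit number. -/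
theorem fac {N p n m : ℕ} (hp : p.Prime) (hN : N = p ^ n * m) (hm : ¬ p ∣ m) : N.factorization p = n := by
  have hm0 : m ≠ 0 := by
    rintro rfl
    exact hm (dvd_zero p)
  rw [hN, Nat.factorization_mul (pow_ne_zero _ hp.pos.ne') hm0, Nat.factorization_pow]
  simp [hp.factorization_self, Nat.factorization_eq_zero_of_not_dvd hm]

/-- `A₅` has an irreducible character of degree 5. -/
theorem im_five_alt {A : Type*} [Group A] [Finite A] (e : A ≃* alternatingGroup (Fin 5)) : IM 5 A := by
  have hc : Nat.card A = 60 := by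
    rw [Nat.card_congr e.toEquiv, nat_card_alternatingGroup]
    simp [Nat.factorial]
  have hs : IsSimpleGroup A := by
    have : IsSimpleGroup (alternatingGroup (Fin 5)) := alternatingGroup.isSimpleGroup (by simp)
    have : Nontrivial A := e.toEquiv.nontrivial
    exact IsSimpleGroup.isSimpleGroup_of_surjective e.symm.toMonoidHom e.symm.surjective
  refine im_of_sylow (card_sylow_of ?_ ?_)
  · intro h
    obtain ⟨P⟩ : Nonempty (Sylow 5 A) := inferInstance
    have hP := P.card_eq_multiplicity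
    rw [hc] at hP
    have h5 : (60 : ℕ).factorization 5 = 1 := by
      have h1 : (60 : ℕ) = 5 ^ 1 * 12 := by norm_num
      exact fac (by norm_num) h1 (by norm_num)
    rw [h5] at hP
    have hn : (P : Subgroup A).Normal := by
      have : Subsingleton (Sylow 5 A) := (Nat.card_eq_one_iff_unique.1 h).1
      exact P.normal_of_subsingleton
    rcases hn.eq_bot_or_eq_top with h1 | h1
    · rw [h1, Subgroup.card_bot] at hP
      norm_num at hP
    · rw [h1, Subgroup.card_top, hc] at hP
      norm_num at hP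
  · rw [hc]
    intro d hd h5 h1
    have h2 : d ≤ 60 := Nat.le_of_dvd (by norm_num) hd
    have h3 : d % 5 = 1 % 5 := h1
    interval_cases d <;> omega

theorem im_j2_five {S : Type u} [Group S] (h : Spor.IsoJ2 S) : IM 5 S := by
  have hc : Nat.card Spor.J2 = 604800 :=
    Cfsg.Agent.OrdDiv.table_spor Spor.J2 (.j2, 604800) (by decide +kernel) ⟨MulEquiv.refl _⟩
  have hS : Nat.card S = 604800 := by
    obtain ⟨e⟩ := h
    rw [Nat.card_congr e.toEquiv, hc]
  have : Finite S := Nat.finite_of_card_ne_zero (by rw [hS]; norm_num)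
  obtain ⟨t, u, Q, v, ρ, D⟩ := KFacts.J2.Facts.exists_dat_of h
  obtain ⟨f, U, V, H0, F⟩ := J2Type.CentU.main D.F
  have h60 : Nat.card H0 = 60 := by
    have h1 := J2Type.Order.card_centralizer_u D.F
    rw [F.str.card] at h1
    omega
  obtain ⟨w, hw⟩ : ∃ w : H0, orderOf w = 5 := exists_prime_orderOf_dvd_card' 5 (by rw [h60]; norm_num)
  have hw' : orderOf (w : S) = 5 := by rw [Subgroup.orderOf_coe, hw]
  obtain ⟨e⟩ := exists_equiv_CQ D.F F h60 hS w.2 hw'
  refine im_of_cent (w : S) hw' ?_ ?_ (by rw [hS]; norm_num)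
  · exact IM.of_quotient _ (im_five_alt e)
  · rw [card_centralizer_five D.F F h60 hS w.2 hw', fac (n := 2) (m := 12) (by norm_num) (by norm_num) (by norm_num)]

theorem im_j2 {S : Type u} [Group S] (h : Spor.IsoJ2 S) {p : ℕ} [hp' : Fact p.Prime] (hp : p ∣ Nat.card S) :
    IM p S := by
  by_cases h5 : p = 5
  · subst h5
    exact im_j2_five h
  · exact IMSuz.im_j2_of_ne h hp h5

end Cfsg.Agent.H852.IMJTwo
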