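import Cfsg.Agent.S0157
import Cfsg.Agent.PermChar.SymAlt
import Cfsg.Agent.H33.IM

/-!
# Irreducible characters of multiply transitive groups (helper852)

* `four` : a `4`-transitive group of degree `n ≥ 4` has irreducible characters of degrees `n (n - 3) / 2` and
  `(n - 1) (n - 2) / 2` (the symmetric square minus `1 + χ` and the alternating square of `χ = π - 1`).
* `im_two` : a `2`-transitive group of degree `n` has `IM p` for every prime `p ∣ n - 1`.
* `im_four` : a `4`-transitive group of degree `n` has `IM p` for every prime `p` dividing `n - 1`,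
  `n (n - 3) / 2` or `(n - 1) (n - 2) / 2`.
-/

set_option autoImplicit false
set_option linter.unusedSectionVars false

open Cfsg

namespace Cfsg.Agent.H852.IMPerm

open Cfsg.Agent.Characters.Core Cfsg.Agent.H33
open scoped ComplexConjugate

section avg

variable {G : Type*} [Group G] [Fintype G]

/-- The average of a function. -/
noncomputable def avg (f : G → ℂ) : ℂ := (Nat.card G : ℂ)⁻¹ * ∑ g : G, f g

theorem avg_add (f g : G → ℂ) : avg (fun x => f x + g x) = avg f + avg g := by
  simp only [avg, Finset.sum_add_distrib, mul_add]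

theorem avg_sub (f g : G → ℂ) : avg (fun x => f x - g x) = avg f - avg g := by
  simp only [avg, Finset.sum_sub_distrib, mul_sub]

theorem avg_mul (c : ℂ) (f : G → ℂ) : avg (fun x => c * f x) = c * avg f := by
  simp only [avg, ← Finset.mul_sum]
  ring

theorem avg_one : avg (fun _ : G => (1 : ℂ)) = 1 := by
  have h : (Nat.card G : ℂ) ≠ 0 := by exact_mod_cast Nat.card_pos.ne'
  rw [avg, Finset.sum_const, Finset.card_univ, ← Nat.card_eq_fintype_card, nsmul_eq_mul, mul_one,
    inv_mul_cancel₀ h]

/-- Twisted fixed points in a transitive action. -/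
theorem avg_twist {T : Type*} [MulAction G T] [Finite T] [Nonempty T] [MulAction.IsPretransitive G T]
    (σ : T → T) : avg (fun g : G => (Nat.card {t : T // g • t = σ t} : ℂ)) = 1 := by
  classical
  have := Fintype.ofFinite T
  have h1 := Cfsg.Agent.S0157.avg_fixedBy (G := G) T
  rw [Cfsg.Agent.S0157.card_orbits_of_pretransitive G T, Nat.cast_one] at h1
  rw [avg, ← h1]
  congr 1
  rw [← Nat.cast_sum, ← Nat.cast_sum]
  congr 1
  have h2 : ∀ t : T, ∃ h : G, h • t = σ t := fun t => MulAction.exists_smul_eq G t (σ t)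
  choose h hh using h2
  rw [← Nat.card_sigma, ← Nat.card_sigma]
  refine Nat.card_congr
    { toFun := fun p => ⟨(h p.2.1)⁻¹ * p.1, p.2.1, ?_⟩
      invFun := fun p => ⟨h p.2.1 * p.1, p.2.1, ?_⟩
      left_inv := fun p => ?_
      right_inv := fun p => ?_ }
  · rw [MulAction.mem_fixedBy, mul_smul, p.2.2, ← hh, inv_smul_smul]
  · have h3 := p.2.2
    rw [MulAction.mem_fixedBy] at h3
    rw [mul_smul, h3, hh]
  · obtain ⟨g, t, ht⟩ := p
    dsimp only
    have h3 : h t * ((h t)⁻¹ * g) = g := mul_inv_cancel_left _ _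
    congr 1
    exact (Subtype.heq_iff_coe_eq fun x => by rw [h3]).2 rfl
  · obtain ⟨g, t, ht⟩ := p
    dsimp only
    have h3 : (h t)⁻¹ * (h t * g) = g := inv_mul_cancel_left _ _
    congr 1
    exact (Subtype.heq_iff_coe_eq fun x => by rw [h3]).2 rfl

end avg

section four

variable {G : Type*} [Group G] (X : Type*) [MulAction G X]

/-- The number of fixed points. -/
noncomputable def fx (g : G) : ℕ := Nat.card (MulAction.fixedBy X g)

/-- The number of points in `2`-cycles. -/
noncomputable def nn (g : G) : ℕ := Nat.card {x : X // g • g • x = x ∧ g • x ≠ x}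

variable [Finite X]

theorem fx_sq (g : G) : fx X (g * g) = fx X g + nn X g := by
  classical
  have h1 : fx X (g * g) = Nat.card {x : X // g • g • x = x} := by
    refine Nat.card_congr (Equiv.subtypeEquivRight fun x => ?_)
    rw [MulAction.mem_fixedBy, mul_smul]
  have h2 : Nat.card {x : X // g • g • x = x} = Nat.card {y : {x : X // g • g • x = x} // g • y.1 = y.1} +
      Nat.card {y : {x : X // g • g • x = x} // ¬ g • y.1 = y.1} := by
    rw [← Nat.card_sum]
    exact Nat.card_congr (Equiv.sumCompl _).symm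
  rw [h1, h2]
  congr 1
  · refine Nat.card_congr ⟨fun y => ⟨y.1.1, y.2⟩, fun x => ⟨⟨x.1, ?_⟩, x.2⟩, fun y => rfl, fun x => rfl⟩
    have h3 : g • x.1 = x.1 := x.2
    rw [h3, h3]
  · exact Nat.card_congr ⟨fun y => ⟨y.1.1, y.1.2, y.2⟩, fun x => ⟨⟨x.1, x.2.1⟩, x.2.2⟩, fun y => rfl,
      fun x => rfl⟩

theorem card_emb (k : ℕ) (g : G) :
    Nat.card {t : Fin k ↪ X // g • t = id t} = (fx X g).descFactorial k := by
  classical
  have := Fintype.ofFinite X
  have := Fintype.ofFinite (MulAction.fixedBy X g)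
  have h1 : Nat.card {t : Fin k ↪ X // g • t = id t} = Nat.card (Fin k ↪ MulAction.fixedBy X g) := by
    refine Nat.card_congr
      { toFun := fun t => ⟨fun i => ⟨t.1 i, ?_⟩, fun i j hij => t.1.injective (congrArg Subtype.val hij)⟩
        invFun := fun f => ⟨⟨fun i => (f i).1, fun i j hij => f.injective (Subtype.ext hij)⟩, ?_⟩
        left_inv := fun t => rfl
        right_inv := fun f => rfl }
    · have h2 := DFunLike.congr_fun t.2 i
      exact h2
    · ext i
      exact (f i).2
  rw [h1, fx, Nat.card_eq_fintype_card, Fintype.card_embedding_eq, Fintype.card_fin, Nat.card_eq_fintype_card]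

/-- The transposition as a map on pairs. -/
def sw2 (t : Fin 2 ↪ X) : Fin 2 ↪ X := (Equiv.swap (0 : Fin 2) 1).toEmbedding.trans t

/-- The transposition of the last two entries as a map on triples. -/
def sw3 (t : Fin 3 ↪ X) : Fin 3 ↪ X := (Equiv.swap (1 : Fin 3) 2).toEmbedding.trans t

theorem card_sw2 (g : G) : Nat.card {t : Fin 2 ↪ X // g • t = sw2 X t} = nn X g := by
  refine Nat.card_congr
    { toFun := fun t => ⟨t.1 0, ?_, ?_⟩
      invFun := fun x => ⟨⟨![x.1, g • x.1], ?_⟩, ?_⟩
      left_inv := fun t => ?_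
      right_inv := fun x => rfl }
  · have h0 : g • t.1 0 = t.1 1 := DFunLike.congr_fun t.2 0
    have h1 : g • t.1 1 = t.1 0 := DFunLike.congr_fun t.2 1
    rw [h0, h1]
  · have h0 : g • t.1 0 = t.1 1 := DFunLike.congr_fun t.2 0
    rw [h0]
    intro h
    exact absurd (t.1.injective h) (by decide)
  · intro i j hij
    have h1 := x.2.2
    fin_cases i <;> fin_cases j <;> first | rfl | (exfalso; exact h1 hij) | (exfalso; exact h1 hij.symm)
  · ext i
    fin_cases i
    · rfl
    · exact x.2.1
  · apply Subtype.ext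
    ext i
    have h0 : g • t.1 0 = t.1 1 := DFunLike.congr_fun t.2 0
    fin_cases i
    · rfl
    · exact h0

theorem card_sw3 (g : G) : Nat.card {t : Fin 3 ↪ X // g • t = sw3 X t} = fx X g * nn X g := by
  rw [fx, nn, ← Nat.card_prod]
  have e0 : ∀ t : {t : Fin 3 ↪ X // g • t = sw3 X t}, g • t.1 0 = t.1 0 := fun t =>
    DFunLike.congr_fun t.2 0
  have e1 : ∀ t : {t : Fin 3 ↪ X // g • t = sw3 X t}, g • t.1 1 = t.1 2 := fun t =>
    DFunLike.congr_fun t.2 1
  have e2 : ∀ t : {t : Fin 3 ↪ X // g • t = sw3 X t}, g • t.1 2 = t.1 1 := fun t =>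
    DFunLike.congr_fun t.2 2
  refine Nat.card_congr
    { toFun := fun t => (⟨t.1 0, e0 t⟩, ⟨t.1 1, ?_, ?_⟩)
      invFun := fun x => ⟨⟨![x.1.1, x.2.1, g • x.2.1], ?_⟩, ?_⟩
      left_inv := fun t => ?_
      right_inv := fun x => rfl }
  · rw [e1, e2]
  · rw [e1]
    intro h
    exact absurd (t.1.injective h) (by decide)
  · have h0 : g • x.1.1 = x.1.1 := x.1.2
    have h1 := x.2.2.1
    have h2 := x.2.2.2
    have h3 : x.1.1 ≠ x.2.1 := by
      intro h
      rw [h] at h0
      exact h2 h0
    have h4 : x.1.1 ≠ g • x.2.1 := by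
      intro h
      rw [h, h1] at h0
      exact h2 h0.symm
    intro i j hij
    fin_cases i <;> fin_cases j <;> first
      | rfl
      | (exfalso; exact h2 hij)
      | (exfalso; exact h2 hij.symm)
      | (exfalso; exact h3 hij)
      | (exfalso; exact h3 hij.symm)
      | (exfalso; exact h4 hij)
      | (exfalso; exact h4 hij.symm)
  · ext i
    fin_cases i
    · exact x.1.2
    · rfl
    · exact x.2.2.1
  · apply Subtype.ext
    ext i
    fin_cases i
    · rfl
    · rfl
    · exact e1 t

variable [Fintype G]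

theorem nonempty_emb {k : ℕ} (hk : k ≤ Nat.card X) : Nonempty (Fin k ↪ X) := by
  have := Fintype.ofFinite X
  rw [Nat.card_eq_fintype_card] at hk
  exact Function.Embedding.nonempty_of_card_le (by simpa using hk)

theorem avg_desc (k : ℕ) [MulAction.IsMultiplyPretransitive G X k] (hk : k ≤ Nat.card X) :
    avg (fun g : G => ((fx X g).descFactorial k : ℂ)) = 1 := by
  have := nonempty_emb X hk
  rw [← avg_twist (G := G) (T := Fin k ↪ X) id]
  simp only [card_emb]

theorem avg_nn [MulAction.IsMultiplyPretransitive G X 2] (hk : 2 ≤ Nat.card X) :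
    avg (fun g : G => (nn X g : ℂ)) = 1 := by
  have := nonempty_emb X hk
  rw [← avg_twist (G := G) (T := Fin 2 ↪ X) (sw2 X)]
  simp only [card_sw2]

theorem avg_fx_nn [MulAction.IsMultiplyPretransitive G X 3] (hk : 3 ≤ Nat.card X) :
    avg (fun g : G => (fx X g : ℂ) * (nn X g : ℂ)) = 1 := by
  have := nonempty_emb X hk
  rw [← avg_twist (G := G) (T := Fin 3 ↪ X) (sw3 X)]
  simp only [card_sw3, Nat.cast_mul]

theorem cast_desc_two (n : ℕ) : ((n.descFactorial 2 : ℕ) : ℂ) = n * (n - 1) := by
  rcases n with _ | n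
  · simp
  · simp only [Nat.descFactorial_succ, Nat.descFactorial_zero]
    simp
    ring

theorem cast_desc_three (n : ℕ) : ((n.descFactorial 3 : ℕ) : ℂ) = n * (n - 1) * (n - 2) := by
  rcases n with _ | _ | n
  · simp
  · simp [Nat.descFactorial_succ]
  · simp only [Nat.descFactorial_succ, Nat.descFactorial_zero, Nat.add_sub_cancel, Nat.sub_zero]
    simp
    ring

theorem cast_desc_four (n : ℕ) : ((n.descFactorial 4 : ℕ) : ℂ) = n * (n - 1) * (n - 2) * (n - 3) := by
  rcases n with _ | _ | _ | n
  · simp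
  · simp [Nat.descFactorial_succ]
  · simp [Nat.descFactorial_succ]
  · simp only [Nat.descFactorial_succ, Nat.descFactorial_zero, Nat.add_sub_cancel, Nat.sub_zero]
    simp
    ring

/-- Inner products of real functions as averages. -/
theorem inner_eq_avg (φ ψ : G → ℂ) (h : ∀ g, conj (ψ g) = ψ g) : classInner φ ψ = avg (fun g => φ g * ψ g) := by
  rw [classInner, avg]
  simp only [h]

theorem four [MulAction.IsMultiplyPretransitive G X 4] (hX : 4 ≤ Nat.card X) :
    (∃ χ : IrrCharacter G, (χ : G → ℂ) 1 = (((Nat.card X - 1) * (Nat.card X - 2) / 2 : ℕ) : ℂ)) ∧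
    (∃ χ : IrrCharacter G, (χ : G → ℂ) 1 = ((Nat.card X * (Nat.card X - 3) / 2 : ℕ) : ℂ)) := by
  have h3 : MulAction.IsMultiplyPretransitive G X 3 := MulAction.isMultiplyPretransitive_of_le (n := 4) (by norm_num) hX
  have h2 : MulAction.IsMultiplyPretransitive G X 2 := MulAction.isMultiplyPretransitive_of_le (n := 4) (by norm_num) hX
  have h1 : MulAction.IsMultiplyPretransitive G X 1 := MulAction.isMultiplyPretransitive_of_le (n := 4) (by norm_num) hX
  have ht : MulAction.IsPretransitive G X := by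
    rw [← MulAction.is_one_pretransitive_iff]
    exact h1
  set P : G → ℂ := fun g => (fx X g : ℂ) with hP
  set T : G → ℂ := fun g => (nn X g : ℂ) with hT
  have a1 : avg (fun g => P g) = 1 := by
    have := avg_desc (G := G) X 1 (by omega)
    simpa using this
  have a2 : avg (fun g => P g * (P g - 1)) = 1 := by
    have := avg_desc (G := G) X 2 (by omega)
    simp only [cast_desc_two] at this
    exact this
  have a3 : avg (fun g => P g * (P g - 1) * (P g - 2)) = 1 := by
    have := avg_desc (G := G) X 3 (by omega)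
    simp only [cast_desc_three] at this
    exact this
  have a4 : avg (fun g => P g * (P g - 1) * (P g - 2) * (P g - 3)) = 1 := by
    have := avg_desc (G := G) X 4 (by omega)
    simp only [cast_desc_four] at this
    exact this
  have b1 : avg (fun g => T g) = 1 := avg_nn X (by omega)
  have b2 : avg (fun g => P g * T g) = 1 := avg_fx_nn X (by omega)
  have a0 : avg (fun _ : G => (1 : ℂ)) = 1 := avg_one
  have hχ : IsIrrCharacter G (fun g => P g - 1) := (Cfsg.Agent.S0157.result X (by omega)).2 h2
  have hsq : ∀ g, P (g * g) = P g + T g := by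
    intro g
    rw [hP, hT]
    simp only [fx_sq, Nat.cast_add]
  set A : G → ℂ := fun g => (P g * P g - 3 * P g + 2 - T g) / 2 with hA
  set S : G → ℂ := fun g => (P g * P g - P g + T g) / 2 with hS
  have hAc : IsCharacter G A := by
    have := Cfsg.Agent.PermChar.SymAlt.isCharacter_altSq (isIrr_isCharacter hχ)
    convert this using 1
    funext g
    rw [hA]
    simp only [hsq]
    ring
  have hSc : IsCharacter G S := by
    have := Cfsg.Agent.PermChar.SymAlt.isCharacter_symSq (isIrr_isCharacter hχ)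
    convert this using 1
    funext g
    rw [hS]
    simp only [hsq]
    ring
  have hPr : ∀ g, conj (P g) = P g := fun g => Complex.conj_natCast _
  have hTr : ∀ g, conj (T g) = T g := fun g => Complex.conj_natCast _
  have hAr : ∀ g, conj (A g) = A g := by
    intro g
    rw [hA]
    simp only [map_div₀, map_sub, map_add, map_mul, hPr, hTr, map_ofNat]
  have hSr : ∀ g, conj (S g) = S g := by
    intro g
    rw [hS]
    simp only [map_div₀, map_sub, map_add, map_mul, hPr, hTr, map_ofNat]
  -- averages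
  have cA : avg (fun g => A g) = 0 := by
    have h : (fun g => A g) = fun g => (1 / 2 : ℂ) * (P g * (P g - 1) - 2 * P g + 2 * 1 - T g) := by
      funext g
      rw [hA]
      ring
    rw [h, avg_mul, avg_sub, avg_add, avg_sub, avg_mul, avg_mul, a0, a1, a2, b1]
    norm_num
  have cAP : avg (fun g => A g * P g) = 0 := by
    have h : (fun g => A g * P g) = fun g => (1 / 2 : ℂ) * (P g * (P g - 1) * (P g - 2) - P g * T g) := by
      funext g
      rw [hA]
      ring
    rw [h, avg_mul, avg_sub, a3, b2]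
    norm_num
  have cN : avg (fun g => (P g * P g - 3 * P g + 1) * (P g * P g - 3 * P g + 1)) = 2 := by
    have h : (fun g => (P g * P g - 3 * P g + 1) * (P g * P g - 3 * P g + 1)) =
        fun g => P g * (P g - 1) * (P g - 2) * (P g - 3) + 1 := by
      funext g
      ring
    rw [h, avg_add, a0, a4]
    norm_num
  set B : G → ℂ := S - P with hB
  have hBr : ∀ g, conj (B g) = B g := by
    intro g
    rw [hB, Pi.sub_apply, map_sub, hSr, hPr]
  have hAB : classInner (A + B) (A + B) = 2 := by
    rw [inner_eq_avg _ _ (fun g => by rw [Pi.add_apply, map_add, hAr, hBr])]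
    rw [← cN]
    congr 1
    funext g
    have h : A g + B g = P g * P g - 3 * P g + 1 := by
      rw [hB, hA, hS, Pi.sub_apply]
      ring
    rw [Pi.add_apply, h]
  have hAP : classInner A P = 0 := by
    rw [inner_eq_avg _ _ hPr]
    exact cAP
  obtain ⟨a, ha⟩ := classInner_isNat hAc hAc
  obtain ⟨c, hc⟩ := classInner_isNat hAc hSc
  have hABc : classInner A B = c := by
    rw [hB, classInner_sub_right, hAP, hc, sub_zero]
  have hBAc : classInner B A = c := by
    rw [← classInner_conj_symm, hABc, Complex.conj_natCast]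
  have hBB : classInner B B = 2 - a - 2 * c := by
    rw [classInner_add_left, classInner_add_right, classInner_add_right, ha, hABc, hBAc] at hAB
    linear_combination hAB
  -- degrees
  have hP1 : P 1 = (Nat.card X : ℂ) := by
    show ((fx X (1 : G) : ℕ) : ℂ) = _
    rw [fx, MulAction.fixedBy_one_eq_univ, Nat.card_univ]
  have hT1 : T 1 = 0 := by
    have h4 := hsq 1
    rw [one_mul] at h4
    linear_combination -h4
  have hA1 : A 1 = (((Nat.card X - 1) * (Nat.card X - 2) / 2 : ℕ) : ℂ) := by
    have h4 : (Nat.card X - 1) * (Nat.card X - 2) / 2 * 2 = (Nat.card X - 1) * (Nat.card X - 2) := by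
      refine Nat.div_mul_cancel (even_iff_two_dvd.1 ?_)
      obtain ⟨m, hm⟩ : ∃ m, Nat.card X = m + 2 := ⟨Nat.card X - 2, by omega⟩
      rw [hm, show m + 2 - 1 = m + 1 by omega, show m + 2 - 2 = m by omega, mul_comm]
      exact Nat.even_mul_succ_self m
    have h5 : ((((Nat.card X - 1) * (Nat.card X - 2) / 2 : ℕ) : ℂ)) * 2 = ((Nat.card X : ℂ) - 1) * ((Nat.card X : ℂ) - 2) := by
      have h6 : ((((Nat.card X - 1) * (Nat.card X - 2) / 2 * 2 : ℕ) : ℂ)) = (((Nat.card X - 1) * (Nat.card X - 2) : ℕ) : ℂ) := by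
        rw [h4]
      rw [Nat.cast_mul, Nat.cast_mul, Nat.cast_sub (by omega), Nat.cast_sub (by omega)] at h6
      exact_mod_cast h6
    have h6 : A 1 = (P 1 * P 1 - 3 * P 1 + 2 - T 1) / 2 := rfl
    rw [h6, hP1, hT1]
    linear_combination (-1 / 2 : ℂ) * h5
  have hB1 : B 1 = ((Nat.card X * (Nat.card X - 3) / 2 : ℕ) : ℂ) := by
    have h4 : Nat.card X * (Nat.card X - 3) / 2 * 2 = Nat.card X * (Nat.card X - 3) := by
      refine Nat.div_mul_cancel (even_iff_two_dvd.1 ?_)
      obtain ⟨m, hm⟩ : ∃ m, Nat.card X = m + 3 := ⟨Nat.card X - 3, by omega⟩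
      rw [hm, show m + 3 - 3 = m by omega, Nat.even_mul]
      rcases Nat.even_or_odd m with h | h
      · exact Or.inr h
      · exact Or.inl (h.add_odd (by decide))
    have h5 : (((Nat.card X * (Nat.card X - 3) / 2 : ℕ) : ℂ)) * 2 = (Nat.card X : ℂ) * ((Nat.card X : ℂ) - 3) := by
      have h6 : (((Nat.card X * (Nat.card X - 3) / 2 * 2 : ℕ) : ℂ)) = ((Nat.card X * (Nat.card X - 3) : ℕ) : ℂ) := by
        rw [h4]
      rw [Nat.cast_mul, Nat.cast_mul, Nat.cast_sub (by omega)] at h6
      exact_mod_cast h6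
    have h6 : B 1 = (P 1 * P 1 - P 1 + T 1) / 2 - P 1 := rfl
    rw [h6, hP1, hT1]
    linear_combination (-1 / 2 : ℂ) * h5
  have hA0 : A 1 ≠ 0 := by
    rw [hA1]
    have h4 : 1 ≤ (Nat.card X - 1) * (Nat.card X - 2) / 2 := by
      have h5 : 3 * 2 ≤ (Nat.card X - 1) * (Nat.card X - 2) := Nat.mul_le_mul (by omega) (by omega)
      omega
    exact_mod_cast (by omega : (Nat.card X - 1) * (Nat.card X - 2) / 2 ≠ 0)
  have hB0n : 1 ≤ Nat.card X * (Nat.card X - 3) / 2 := by
    have h5 : 4 * 1 ≤ Nat.card X * (Nat.card X - 3) := Nat.mul_le_mul (by omega) (by omega)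
    omega
  have hB0 : B 1 ≠ 0 := by
    rw [hB1]
    exact_mod_cast (by omega : Nat.card X * (Nat.card X - 3) / 2 ≠ 0)
  have ha0 : a ≠ 0 := by
    rintro rfl
    have h4 := classInner_self_eq_zero (φ := A) (by rw [ha]; simp)
    exact hA0 (by rw [h4]; rfl)
  have hpos : 0 < (2 : ℝ) - a - 2 * c := by
    have h4 := classInner_self_eq_ofReal B
    rw [hBB] at h4
    have h5 : (2 : ℝ) - a - 2 * c = (Nat.card G : ℝ)⁻¹ * ∑ g : G, Complex.normSq (B g) := by exact_mod_cast h4
    rw [h5]
    refine mul_pos (inv_pos.2 (by exact_mod_cast Nat.card_pos)) ?_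
    refine Finset.sum_pos' (fun g _ => Complex.normSq_nonneg _) ⟨1, Finset.mem_univ _, ?_⟩
    exact Complex.normSq_pos.2 hB0
  have hac : a + 2 * c < 2 := by
    have : ((a + 2 * c : ℕ) : ℝ) < (2 : ℕ) := by push_cast; linarith
    exact_mod_cast this
  have ha1 : a = 1 := by omega
  have hc0 : c = 0 := by omega
  have hAi : IsIrrCharacter G A := isIrr_of_classInner_self hAc (by rw [ha, ha1]; simp)
  have hBn : classInner B B = 1 := by
    rw [hBB, ha1, hc0]
    norm_num
  have hBi : IsIrrCharacter G B := by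
    rcases isIrr_of_generalized ⟨S, P, hSc, Cfsg.Agent.S0157.isCharacter_fixedBy X, rfl⟩ hBn with h | h
    · exact h
    · exfalso
      obtain ⟨m, hm, hm1⟩ := isIrr_apply_one h
      have h4 : (((m + Nat.card X * (Nat.card X - 3) / 2 : ℕ)) : ℂ) = ((0 : ℕ) : ℂ) := by
        rw [Nat.cast_add, ← hm1, ← hB1, Pi.neg_apply, Nat.cast_zero]
        exact neg_add_cancel (B 1)
      have h5 : m + Nat.card X * (Nat.card X - 3) / 2 = 0 := by exact_mod_cast h4
      omega
  exact ⟨⟨⟨A, hAi⟩, hA1⟩, ⟨⟨B, hBi⟩, hB1⟩⟩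

end four

section im

variable {G : Type*} [Group G] [Finite G] {X : Type*} [MulAction G X] [Finite X] {p : ℕ}

theorem im_two (h : MulAction.IsMultiplyPretransitive G X 2) (hX : 2 ≤ Nat.card X)
    (hp : p ∣ Nat.card X - 1) : IM p G := by
  have h1 : MulAction.IsMultiplyPretransitive G X 1 :=
    MulAction.isMultiplyPretransitive_of_le (n := 2) (by norm_num) hX
  have ht : MulAction.IsPretransitive G X := by
    rw [← MulAction.is_one_pretransitive_iff]
    exact h1
  refine IM.of_apply_one ((Cfsg.Agent.S0157.result X hX).2 h) (n := Nat.card X - 1) ?_ hp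
  have h3 : Nat.card (MulAction.fixedBy X (1 : G)) = Nat.card X := by
    rw [MulAction.fixedBy_one_eq_univ, Nat.card_univ]
  show ((Nat.card (MulAction.fixedBy X (1 : G)) : ℕ) : ℂ) - 1 = _
  rw [h3, Nat.cast_sub (by omega)]
  simp

theorem im_four (h : MulAction.IsMultiplyPretransitive G X 4) (hX : 4 ≤ Nat.card X)
    (hp : p ∣ Nat.card X - 1 ∨ p ∣ (Nat.card X - 1) * (Nat.card X - 2) / 2 ∨
      p ∣ Nat.card X * (Nat.card X - 3) / 2) : IM p G := by
  have := Fintype.ofFinite G
  rcases hp with hp | hp | hp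
  · exact im_two (MulAction.isMultiplyPretransitive_of_le (n := 4) (by norm_num) hX) (by omega) hp
  · obtain ⟨⟨χ, hχ⟩, -⟩ := four (G := G) X hX
    exact IM.of_apply_one χ.2 hχ hp
  · obtain ⟨-, χ, hχ⟩ := four (G := G) X hX
    exact IM.of_apply_one χ.2 hχ hp

end im

end Cfsg.Agent.H852.IMPerm
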