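import Cfsg.Agent.H33.RD
import Cfsg.Agent.H852.IMPerm

/-!
# Itô-Michler: local criteria for elements of prime order (helper852)

* `im_of_sylow` : `p + 1` Sylow `p`-subgroups: there is an irreducible character of degree `p`.
* `im_of_cent` : `x` of order `p`, `p ^ 2 ∣ #G`, `p ^ 3 ∤ #C(x)` and `IM p C(x)` imply `IM p G`.
-/

set_option autoImplicit false

open Cfsg

namespace Cfsg.Agent.H852.IMLocal

open Cfsg.Agent.H33 Cfsg.Agent.H852.IMPerm

section

variable {G : Type*} [Group G] [Finite G] {p : ℕ} [hp : Fact p.Prime]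

theorem sylow_two_trans (h : Nat.card (Sylow p G) = p + 1) :
    MulAction.IsMultiplyPretransitive G (Sylow p G) 2 := by
  classical
  rw [MulAction.is_two_pretransitive_iff]
  intro a b c d hab hcd
  obtain ⟨g, hg⟩ := MulAction.exists_smul_eq G a c
  have hgb : g • b ≠ c := by
    rw [← hg]
    exact fun h1 => hab (MulAction.injective g h1).symm
  -- the orbit of `g • b` under `c`
  set O : Set (Sylow p G) := MulAction.orbit (c : Subgroup G) (g • b) with hO
  have hfix : ∀ t ∈ (c : Subgroup G), t • c = c := fun t ht =>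
    Sylow.smul_eq_iff_mem_normalizer.2 (Subgroup.le_normalizer ht)
  have hsub : O ⊆ {Q | Q ≠ c} := by
    rintro Q ⟨⟨t, ht⟩, rfl⟩ hQ
    have h1 : t • (g • b) = c := hQ
    exact hgb (MulAction.injective t (h1.trans (hfix t ht).symm))
  have hcard : ({Q | Q ≠ c} : Set (Sylow p G)).ncard = p := by
    have h1 : ({Q | Q ≠ c} : Set (Sylow p G)) = Set.univ \ {c} := by
      ext Q
      simp
    rw [h1, Set.ncard_sdiff_singleton_of_mem (Set.mem_univ _), Set.ncard_univ, h]
    rfl
  obtain ⟨n, hn⟩ := c.2.card_orbit (g • b)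
  have hn' : O.ncard = p ^ n := by
    rw [← Nat.card_coe_set_eq]
    exact hn
  have hn0 : n ≠ 0 := by
    rintro rfl
    rw [pow_zero] at hn
    have h1 : (g • b) ∈ MulAction.fixedPoints (c : Subgroup G) (Sylow p G) := by
      have := Fintype.ofFinite (MulAction.orbit (c : Subgroup G) (g • b))
      rw [Nat.card_eq_fintype_card] at hn
      exact MulAction.mem_fixedPoints_iff_card_orbit_eq_one.2 hn
    rw [c.2.sylow_mem_fixedPoints_iff] at h1
    exact hgb (Sylow.ext (c.3 (g • b).2 h1))
  have hle : O.ncard ≤ p := (Set.ncard_le_ncard hsub (Set.toFinite _)).trans hcard.le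
  have hOp : O.ncard = p := by
    refine le_antisymm hle ?_
    rw [hn']
    exact Nat.le_self_pow hn0 p
  have hOe : O = {Q | Q ≠ c} := Set.eq_of_subset_of_ncard_le hsub (by rw [hcard, hOp]) (Set.toFinite _)
  have hd : d ∈ O := by
    rw [hOe]
    exact hcd.symm
  obtain ⟨⟨t, ht⟩, htd⟩ := hd
  refine ⟨t * g, ?_, ?_⟩
  · rw [mul_smul, hg, hfix t ht]
  · rw [mul_smul]
    exact htd

/-- `p + 1` Sylow `p`-subgroups: an irreducible character of degree `p`. -/
theorem im_of_sylow (h : Nat.card (Sylow p G) = p + 1) : IM p G := by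
  have h1 := hp.out.two_le
  exact im_two (sylow_two_trans h) (by omega) (by rw [h]; simp)

/-- The number of Sylow `p`-subgroups from the order. -/
theorem card_sylow_of (hne : Nat.card (Sylow p G) ≠ 1)
    (hd : ∀ d : ℕ, d ∣ Nat.card G → ¬ p ∣ d → d ≡ 1 [MOD p] → d = 1 ∨ d = p + 1) :
    Nat.card (Sylow p G) = p + 1 := by
  have h1 : Nat.card (Sylow p G) ∣ Nat.card G := by
    obtain ⟨P⟩ : Nonempty (Sylow p G) := inferInstance
    exact P.card_dvd_index.trans (Subgroup.index_dvd_card _)
  have h2 : ¬ p ∣ Nat.card (Sylow p G) := not_dvd_card_sylow p G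
  exact (hd _ h1 h2 (card_sylow_modEq_one p G)).resolve_left hne

/-- An element normalizing a group of prime order `p` and of `p`-power order centralizes it. -/
theorem mem_cent_of_normalizer {x g : G} (hx : orderOf x = p)
    (hg : g ∈ Subgroup.normalizer ((Subgroup.zpowers x : Subgroup G) : Set G)) (hk : ∃ k : ℕ, orderOf g = p ^ k) :
    g * x * g⁻¹ = x := by
  obtain ⟨k, hk⟩ := hk
  have h1 : g * x * g⁻¹ ∈ Subgroup.zpowers x := (Subgroup.mem_normalizer_iff.1 hg x).1 (Subgroup.mem_zpowers x)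
  obtain ⟨m, hm⟩ : ∃ m : ℕ, x ^ m = g * x * g⁻¹ := by
    rw [← mem_powers_iff_mem_zpowers] at h1
    exact h1
  have h2 : ∀ j : ℕ, g ^ j * x * (g ^ j)⁻¹ = x ^ (m ^ j) := by
    intro j
    induction j with
    | zero => simp
    | succ j ih =>
      have h3 : g ^ (j + 1) * x * (g ^ (j + 1))⁻¹ = g * (g ^ j * x * (g ^ j)⁻¹) * g⁻¹ := by
        rw [pow_succ']
        group
      rw [h3, ih, ← conj_pow, ← hm, ← pow_mul, pow_succ']
  have h3 := h2 (p ^ k)
  rw [← hk, pow_orderOf_eq_one] at h3
  rw [hk] at h3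
  simp only [one_mul, inv_one, mul_one] at h3
  -- `m ^ (p ^ k) ≡ m`
  have h4 : ∀ j : ℕ, m ^ (p ^ j) ≡ m [MOD p] := by
    intro j
    induction j with
    | zero => simp [Nat.ModEq.refl]
    | succ j ih =>
      rw [pow_succ, pow_mul]
      have h5 : (m ^ p ^ j) ^ p ≡ m ^ p [MOD p] := ih.pow p
      refine h5.trans ?_
      have h6 : ((m : ZMod p)) ^ p = m := ZMod.pow_card _
      have h7 : ((m ^ p : ℕ) : ZMod p) = ((m : ℕ) : ZMod p) := by
        rw [Nat.cast_pow]
        exact h6
      exact (ZMod.natCast_eq_natCast_iff _ _ _).1 h7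
  have h5 : x ^ (m ^ (p ^ k)) = x ^ m := by
    rw [pow_eq_pow_iff_modEq, hx]
    exact h4 k
  rw [← hm, ← h5, ← h3]

end

section

universe u

variable {G : Type u} [Group G] [Finite G] {p : ℕ} [hp : Fact p.Prime]

theorem im_of_cent (x : G) (hx : orderOf x = p) (h : IM p (Subgroup.centralizer ({x} : Set G)))
    (hc : (Nat.card (Subgroup.centralizer ({x} : Set G))).factorization p ≤ 2) (hG : p ^ 2 ∣ Nat.card G) :
    IM p G := by
  have hcent : Subgroup.centralizer ((Subgroup.zpowers x : Subgroup G) : Set G) = Subgroup.centralizer {x} := by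
    rw [Subgroup.zpowers_eq_closure, Subgroup.centralizer_closure]
  have hD : Nat.card (Subgroup.zpowers x) = p := by rw [Nat.card_zpowers, hx]
  rw [← hcent] at h hc
  obtain ⟨θ, hθ⟩ := h
  have hle : Subgroup.zpowers x ≤ Subgroup.centralizer ((Subgroup.zpowers x : Subgroup G) : Set G) := by
    rw [hcent, Subgroup.zpowers_le, Subgroup.mem_centralizer_singleton_iff]
  refine IM.of_local (Subgroup.zpowers x) (IsPGroup.of_card (n := 1) (by rw [hD, pow_one])) ?_ θ ?_ ?_
  · have h1 := (Subgroup.zpowers x).card_mul_index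
    rw [hD] at h1
    rw [← h1, pow_two] at hG
    exact (Nat.mul_dvd_mul_iff_left hp.out.pos).1 hG
  · rw [inf_eq_left.2 hle, hD, hp.out.factorization_self]
    have h0 := (Cfsg.Agent.Blocks.Basic.charDegree_pos θ.2).ne'
    have h1 := (hp.out.dvd_iff_one_le_factorization h0).1 hθ
    exact hc.trans (Nat.add_le_add_right h1 1)
  · intro g hg hk
    refine Subgroup.mem_sup_right ?_
    rw [hcent, Subgroup.mem_centralizer_singleton_iff]
    exact mul_inv_eq_iff_eq_mul.1 (mem_cent_of_normalizer hx hg hk)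

end

end Cfsg.Agent.H852.IMLocal
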