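import Cfsg.Agent.HN.AutHS
import Cfsg.Agent.H852.IMLocal

/-!
# `HS`: an irreducible character of degree divisible by 3 (helper852)

For `x` of order 3 the group `C(x)` acts as `S₅` on the five pairs of antipodal fixed points of `x`.
-/

set_option autoImplicit false
open Cfsg

namespace Cfsg.Agent.H852.IMHS

open Cfsg.Agent.H33 Cfsg.Agent.H852.IMPerm Cfsg.Agent.H852.IMLocal Subgroup Equiv
open Cfsg.Agent.SporadicA.PermTab Cfsg.Agent.HN.HS100

/-- inverse of `tW` -/
def tWi : ℕ := 0xc01383083a05e0fc128450b81002e8580920582804f0200ec2905505c18c2d0590181201a03502a088068320be0702204b0bc1881e05b0a20f80000403a01c1205708e158148420861502982d0100801884d0720841b84606c1280d80106007c2600304c0380581a04e0481c0230661040782b0540601e8280280080882c0320140b81303c02804806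

theorem inYi : InG Q tYi := word_of (L := [tY, tY, tY, tY, tY]) (mem3 inX inY inW) (by simp) (by decide +kernel)
theorem inWi : InG Q tWi := word_of (L := [tW, tW, tW, tW, tW]) (mem3 inX inY inW) (by simp) (by decide +kernel)

theorem mem5 : ∀ P ∈ [tX, tY, tW, tYi, tWi], InG Q P := by
  intro P hP
  simp only [List.mem_cons, List.not_mem_nil, or_false] at hP
  rcases hP with rfl | rfl | rfl | rfl | rfl
  exacts [inX, inY, inW, inYi, inWi]

/-- An element of `Q` with a given table. -/
theorem exists_el {P : ℕ} (h : InG Q P) : ∃ g : Q, ∀ i : Fin 100, ((g : Perm (Fin 100)) i : ℕ) = lk P i := by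
  obtain ⟨g, hg, h1⟩ := h
  exact ⟨⟨g, hg⟩, h1⟩

/-- Tables commute. -/
def comB (P R : ℕ) : Bool := allB (fun i => Nat.beq (lk P (lk R i)) (lk R (lk P i))) 100

theorem commute_of {P R : ℕ} {g k : Q} (hg : ∀ i : Fin 100, ((g : Perm (Fin 100)) i : ℕ) = lk P i)
    (hk : ∀ i : Fin 100, ((k : Perm (Fin 100)) i : ℕ) = lk R i) (h : comB P R = true) : g * k = k * g := by
  apply Subtype.ext
  refine Equiv.ext fun i => Fin.ext ?_
  have h1 := Nat.eq_of_beq_eq_true ((allB_iff _ _).1 h i i.2)
  show ((g : Perm (Fin 100)) ((k : Perm (Fin 100)) i) : ℕ) = ((k : Perm (Fin 100)) ((g : Perm (Fin 100)) i) : ℕ)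
  rw [hg, hk, hk, hg]
  exact h1

/-- The table of a power. -/
theorem pow_of {P : ℕ} {g : Q} (hg : ∀ i : Fin 100, ((g : Perm (Fin 100)) i : ℕ) = lk P i) (n : ℕ) (i : Fin 100) :
    (((g ^ n : Q) : Perm (Fin 100)) i : ℕ) = ev (List.replicate n P) i := by
  induction n generalizing i with
  | zero => rfl
  | succ n ih =>
    rw [pow_succ, List.replicate_succ, ev_cons]
    show (((g ^ n : Q) : Perm (Fin 100)) ((g : Perm (Fin 100)) i) : ℕ) = _
    rw [ih, hg]

theorem orderOf_of {P : ℕ} {g : Q} (hg : ∀ i : Fin 100, ((g : Perm (Fin 100)) i : ℕ) = lk P i) {q : ℕ}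
    [hq : Fact q.Prime] (h : allB (fun i => Nat.beq (ev (List.replicate q P) i) i) 100 = true) (j : Fin 100)
    (hj : lk P j ≠ j) : orderOf g = q := by
  refine orderOf_eq_prime ?_ ?_
  · apply Subtype.ext
    refine Equiv.ext fun i => Fin.ext ?_
    rw [pow_of hg]
    exact Nat.eq_of_beq_eq_true ((allB_iff _ _).1 h i i.2)
  · rintro rfl
    apply hj
    rw [← hg j]
    rfl

section three

/-- an element of order 3 -/
def t3 : ℕ := 0x101643084007a00c198190be09c0b0490501600380c05c0b02400e0261441a03e0141482b04e0440fc1184c0b806c130390081102d83c03a070300380a60d80800501e0c8228300a00dc2384a084150058150020481281f0620b41a84b03c09004817056068218550741882b814004104318210ba0bc1482a01a0801d8110300182684600013c2d05e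
/-- acts as a 5-cycle -/
def ta : ℕ := 0x2e0100302901410808816096078230390a21002d8120940880c0030ba01c2205602a11c300550540c4080490b209c2980b08a1601003609e0ec068300580682e04c0c61841a8320bc1480602d0b40981a0480480b81e0500421502182801c0bc0981d0020503103d0120fc270250660dc0e0190100002684100a15c0103a0be0e01f02303603c0f82b
/-- acts as a transposition -/
def tb : ℕ := 0xbe0ec0a00e0c60d0288130221240e80101809c170150300842e83908603c0002b0440402d03304005c0901b09e0f81182f074108040060c40fc2803600e0e01605e0900941301a080154050350980a00f02a0ac0c41900b08212c2904701a0a42c8040880c00105308c0242a0610b81142d84a09c1800f8570480b40b03d06e0f00181c00a0642c04d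
/-- labels of the fixed points -/
def tlab : ℕ := 0x2000000000000000000000000000000000000000000000000000000000000000000000000000000000000000000000000000000000000000010000040000000000c00002000000000000000000000000000002000000000000000000000000000000800000000000000030000000000000000000000000000000000000000000000000000000

theorem in3' : InG Q t3 := word_of (L := (List.replicate 5 [tX, tY, tX, tY, tY, tW, tW, tX, tW, tW]).flatten)
  (mem3 inX inY inW) (by
    intro P hP
    rw [List.mem_flatten] at hP
    obtain ⟨l, hl, hPl⟩ := hP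
    rw [(List.mem_replicate.1 hl).2] at hPl
    revert hPl
    simp only [List.mem_cons, List.not_mem_nil, or_false]
    tauto) (by decide +kernel)

theorem ina : InG Q ta := word_of (L := [tW, tY, tW, tY, tY, tX, tY, tW, tX, tY, tWi, tWi, tX, tYi, tYi, tWi, tYi, tYi, tYi, tWi])
  mem5 (by intro P; simp only [List.mem_cons, List.not_mem_nil, or_false]; tauto) (by decide +kernel)

theorem inb : InG Q tb := word_of (L := [tY, tW, tW, tX, tW, tW, tX, tY, tY, tW, tY, tX, tYi, tYi, tWi, tYi, tX, tWi, tYi, tYi])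
  mem5 (by intro P; simp only [List.mem_cons, List.not_mem_nil, or_false]; tauto) (by decide +kernel)

/-- representatives of the pairs -/
def rep : Fin 5 → Fin 100 := ![6, 54, 26, 20, 37]

/-- the label of a fixed point -/
def labF (i : Fin 100) : Fin 5 := ⟨lk tlab i % 5, Nat.mod_lt _ (by norm_num)⟩

/-- same pair -/
def Same (i j : Fin 100) : Prop := i = j ∨ (bitM 100 adjA i j = 0 ∧
  ∀ k : Fin 100, lk t3 k = k → ¬ (bitM 100 adjA i k = 1 ∧ bitM 100 adjA j k = 1))

/-- same pair, Boolean -/
def sameB (i j : ℕ) : Bool := (Nat.beq i j) || ((Nat.beq (bitM 100 adjA i j) 0) &&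
  allB (fun k => !(Nat.beq (lk t3 k) k && (Nat.beq (bitM 100 adjA i k) 1 && Nat.beq (bitM 100 adjA j k) 1))) 100)

theorem nbq_iff (a b : ℕ) : Nat.beq a b = true ↔ a = b :=
  ⟨Nat.eq_of_beq_eq_true, fun h => h ▸ Nat.beq_refl _⟩

theorem sameB_iff (i j : Fin 100) : sameB i j = true ↔ Same i j := by
  unfold sameB Same
  rw [Bool.or_eq_true, Bool.and_eq_true, allB_iff, nbq_iff, nbq_iff, Fin.ext_iff]
  refine or_congr Iff.rfl (and_congr Iff.rfl ⟨fun h k hk => ?_, fun h k hk => ?_⟩)
  · have h1 := h k k.2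
    rw [Bool.not_eq_true', Bool.and_eq_false_iff, Bool.and_eq_false_iff] at h1
    rintro ⟨h2, h3⟩
    rw [hk, h2, h3] at h1
    simp at h1
  · have h1 := h ⟨k, hk⟩
    rw [Bool.not_eq_true', Bool.and_eq_false_iff, Bool.and_eq_false_iff]
    by_contra hcon
    push Not at hcon
    simp only [ne_eq, Bool.not_eq_false, nbq_iff] at hcon
    exact h1 hcon.1 ⟨hcon.2.1, hcon.2.2⟩

/-- all fixed points, all pairs -/
def labChk : Bool := allB (fun i => allB (fun j => !(Nat.beq (lk t3 i) i && Nat.beq (lk t3 j) j) ||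
  ((Nat.beq (lk tlab i % 5) (lk tlab j % 5)) == sameB i j)) 100) 100

theorem labChk_true : labChk = true := by decide +kernel

theorem lab_iff {i j : Fin 100} (hi : lk t3 i = i) (hj : lk t3 j = j) : labF i = labF j ↔ Same i j := by
  have h1 := (allB_iff _ _).1 ((allB_iff _ _).1 labChk_true i i.2) j j.2
  rw [Bool.or_eq_true, Bool.not_eq_true', Bool.and_eq_false_iff] at h1
  rcases h1 with h1 | h1
  · exfalso
    rcases h1 with h1 | h1
    · rw [(nbq_iff _ _).2 hi] at h1
      exact absurd h1 (by simp)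
    · rw [(nbq_iff _ _).2 hj] at h1
      exact absurd h1 (by simp)
  · rw [← sameB_iff, ← beq_iff_eq.1 h1, nbq_iff, Fin.ext_iff]
    rfl

theorem adj_eq {g : Q} (i j : Fin 100) :
    bitM 100 adjA ((g : Perm (Fin 100)) i : Fin 100) ((g : Perm (Fin 100)) j : Fin 100) = bitM 100 adjA i j :=
  Q_le g.2 i j

/-- elements commuting with `x` preserve the pairs -/
theorem same_smul {x g : Q} (hx : ∀ i : Fin 100, ((x : Perm (Fin 100)) i : ℕ) = lk t3 i) (hg : g * x = x * g)
    {i j : Fin 100} (h : Same i j) : Same ((g : Perm (Fin 100)) i) ((g : Perm (Fin 100)) j) := by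
  rcases h with rfl | ⟨h1, h2⟩
  · exact Or.inl rfl
  · refine Or.inr ⟨by rw [adj_eq]; exact h1, fun k hk hcon => ?_⟩
    obtain ⟨l, rfl⟩ := (g : Perm (Fin 100)).surjective k
    rw [adj_eq, adj_eq] at hcon
    refine h2 l ?_ hcon
    rw [← hx] at hk ⊢
    have h3 : (x : Perm (Fin 100)) ((g : Perm (Fin 100)) l) = (g : Perm (Fin 100)) l := Fin.ext hk
    have h4 : (g : Perm (Fin 100)) ((x : Perm (Fin 100)) l) = (x : Perm (Fin 100)) ((g : Perm (Fin 100)) l) :=
      congrArg (fun z : Q => (z : Perm (Fin 100)) l) hg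
    rw [h3] at h4
    rw [(g : Perm (Fin 100)).injective h4]

theorem fix_smul {x g : Q} (hx : ∀ i : Fin 100, ((x : Perm (Fin 100)) i : ℕ) = lk t3 i) (hg : g * x = x * g)
    {i : Fin 100} (h : lk t3 i = i) : lk t3 ((g : Perm (Fin 100)) i : Fin 100) = ((g : Perm (Fin 100)) i : Fin 100) := by
  rw [← hx] at h ⊢
  have h3 : (x : Perm (Fin 100)) i = i := Fin.ext h
  have h4 : (g : Perm (Fin 100)) ((x : Perm (Fin 100)) i) = (x : Perm (Fin 100)) ((g : Perm (Fin 100)) i) :=
    congrArg (fun z : Q => (z : Perm (Fin 100)) i) hg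
  rw [h3] at h4
  rw [← h4]

theorem rep_fix : ∀ t : Fin 5, lk t3 (rep t) = rep t := by decide +kernel
theorem lab_rep : ∀ t : Fin 5, labF (rep t) = t := by decide +kernel

/-- The action on the five pairs. -/
@[reducible] def act5 {x : Q} (hx : ∀ i : Fin 100, ((x : Perm (Fin 100)) i : ℕ) = lk t3 i) :
    MulAction (centralizer ({x} : Set Q)) (Fin 5) where
  smul g t := labF (((g : Q) : Perm (Fin 100)) (rep t))
  one_smul t := lab_rep t
  mul_smul g h t := by
    have hg : (g : Q) * x = x * g := mem_centralizer_singleton_iff.1 g.2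
    have hh : (h : Q) * x = x * h := mem_centralizer_singleton_iff.1 h.2
    show labF (((g * h : centralizer ({x} : Set Q)) : Perm (Fin 100)) (rep t)) =
      labF (((g : Q) : Perm (Fin 100)) (rep (labF (((h : Q) : Perm (Fin 100)) (rep t)))))
    have h1 := fix_smul hx hh (rep_fix t)
    have h2 := rep_fix (labF (((h : Q) : Perm (Fin 100)) (rep t)))
    have h3 : Same (((h : Q) : Perm (Fin 100)) (rep t)) (rep (labF (((h : Q) : Perm (Fin 100)) (rep t)))) :=
      (lab_iff h1 h2).1 (lab_rep _).symm
    exact (lab_iff (fix_smul hx hg h1) (fix_smul hx hg h2)).2 (same_smul hx hg h3)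

theorem im_three : IM 3 Spor.HS := by
  obtain ⟨⟨e⟩, -⟩ := Cfsg.Agent.HN.AutHS.nonempty_Q
  refine IM.of_equiv e.symm ?_
  have hQ : Nat.card Q = 44352000 := Cfsg.Agent.HN.AutBound.card_Q
  have : Fact (Nat.Prime 3) := ⟨by norm_num⟩
  obtain ⟨x, hx⟩ := exists_el in3'
  obtain ⟨a, ha⟩ := exists_el ina
  obtain ⟨b, hb⟩ := exists_el inb
  have hxo : orderOf x = 3 := orderOf_of hx (by decide +kernel) 0 (by decide +kernel)
  have hax : a * x = x * a := commute_of ha hx (by decide +kernel)
  have hbx : b * x = x * b := commute_of hb hx (by decide +kernel)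
  refine im_of_cent x hxo ?_ ?_ (by rw [hQ]; norm_num)
  · let _ := act5 hx
    let a' : centralizer ({x} : Set Q) := ⟨a, mem_centralizer_singleton_iff.2 hax⟩
    let b' : centralizer ({x} : Set Q) := ⟨b, mem_centralizer_singleton_iff.2 hbx⟩
    set ψ := MulAction.toPermHom (centralizer ({x} : Set Q)) (Fin 5) with hψ
    have hlab : ∀ {P : ℕ} {g : Q}, (∀ i : Fin 100, ((g : Perm (Fin 100)) i : ℕ) = lk P i) → ∀ t : Fin 5,
        (labF ((g : Perm (Fin 100)) (rep t)) : ℕ) = lk tlab (lk P (rep t)) % 5 := by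
      intro P g hg t
      show lk tlab ((g : Perm (Fin 100)) (rep t) : Fin 100) % 5 = _
      rw [hg]
    have h1 : ψ a' = finRotate 5 := by
      refine Equiv.ext fun t => Fin.ext ?_
      show (labF ((a : Perm (Fin 100)) (rep t)) : ℕ) = _
      rw [hlab ha]
      revert t
      decide +kernel
    have h2 : ψ b' = swap 3 4 := by
      refine Equiv.ext fun t => Fin.ext ?_
      show (labF ((b : Perm (Fin 100)) (rep t)) : ℕ) = _
      rw [hlab hb]
      revert t
      decide +kernel
    have h3 : Function.Surjective ψ := by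
      rw [← MonoidHom.range_eq_top, eq_top_iff, ← Equiv.Perm.closure_prime_cycle_swap (σ := finRotate 5)
        (τ := swap 3 4) (by simp; norm_num) isCycle_finRotate support_finRotate ⟨3, 4, by decide, rfl⟩,
        closure_le]
      rintro g (rfl | hg)
      · exact ⟨a', h1⟩
      · rw [Set.mem_singleton_iff] at hg
        rw [hg]
        exact ⟨b', h2⟩
    refine IM.of_surjective ψ h3 ?_
    exact im_four (X := Fin 5) (Equiv.Perm.isMultiplyPretransitive (Fin 5) 4) (by simp) (by simp)
  · have h1 : Nat.card (centralizer ({x} : Set Q)) ∣ 44352000 := by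
      rw [← hQ]
      exact card_subgroup_dvd_card _
    have h2 := (Nat.factorization_le_iff_dvd Nat.card_pos.ne' (by norm_num)).2 h1 3
    have h3 : (44352000 : ℕ).factorization 3 = 2 := by
      rw [show (44352000 : ℕ) = 3 ^ 2 * 4928000 by norm_num,
        Nat.factorization_mul (by norm_num) (by norm_num), Nat.factorization_pow]
      simp [Nat.Prime.factorization_self Nat.prime_three, Nat.factorization_eq_zero_of_not_dvd]
    exact h2.trans h3.le

end three

end Cfsg.Agent.H852.IMHS
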