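import Cfsg.Prelude.Def_Sporadic
import Cfsg.Agent.H45.Thin.Leech
import Cfsg.Agent.GH.LowRankMathieu

/-!
# Frobenius subgroups `2^3:7` in `A₁₀`, `A₁₁`, `M₂₂`, `M₂₃`, `HS`, `McL` (helper852, for S5117)
-/

set_option autoImplicit false

namespace Cfsg.Agent.H852.FrobElts

open Cfsg Subgroup

/-- `G` contains an elementary abelian subgroup of order 8 and an element of order 7 normalizing but not
centralizing it. -/
def HasFrob (G : Type*) [Group G] : Prop :=
  ∃ (E : Subgroup G) (x : G), Nat.card E = 8 ∧ (∀ e ∈ E, e * e = 1) ∧ (∀ e ∈ E, x * e * x⁻¹ ∈ E) ∧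
    orderOf x = 7 ∧ ∃ e ∈ E, x * e ≠ e * x

theorem HasFrob.map {G H : Type*} [Group G] [Group H] (f : G →* H) (hf : Function.Injective f) (h : HasFrob G) :
    HasFrob H := by
  obtain ⟨E, x, hE, h2, hx, h7, e, he, hne⟩ := h
  refine ⟨E.map f, f x, ?_, ?_, ?_, ?_, f e, mem_map_of_mem f he, ?_⟩
  · rw [← hE]
    exact Nat.card_congr (E.equivMapOfInjective f hf).symm.toEquiv
  · rintro _ ⟨a, ha, rfl⟩
    rw [← map_mul, h2 a ha, map_one]
  · rintro _ ⟨a, ha, rfl⟩
    rw [← map_inv, ← map_mul, ← map_mul]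
    exact mem_map_of_mem f (hx a ha)
  · rw [orderOf_injective f hf, h7]
  · rw [← map_mul, ← map_mul]
    exact fun h => hne (hf h)

theorem zmod_two (i : ZMod 2) : i = 0 ∨ i = 1 := by
  fin_cases i
  · exact Or.inl rfl
  · exact Or.inr rfl

/-- the homomorphism of the group of order 2 given by an element with square one -/
def homTwo {G : Type*} [Group G] (a : G) (ha : a * a = 1) : Multiplicative (ZMod 2) →* G where
  toFun i := if i.toAdd = 0 then 1 else a
  map_one' := rfl
  map_mul' i j := by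
    have h : ∀ i j : ZMod 2, (if i + j = 0 then (1 : G) else a) = (if i = 0 then 1 else a) * (if j = 0 then 1 else a) := by
      intro i j
      have h10 : ¬ (1 : ZMod 2) = 0 := by decide
      have h11 : (1 : ZMod 2) + 1 = 0 := by decide
      rcases zmod_two i with rfl | rfl <;> rcases zmod_two j with rfl | rfl
      · simp
      · rw [zero_add, if_neg h10, if_pos rfl, one_mul]
      · rw [add_zero, if_neg h10, if_pos rfl, mul_one]
      · rw [h11, if_neg h10, if_pos rfl, ha]
    exact h i.toAdd j.toAdd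

theorem homTwo_cases {G : Type*} [Group G] (a : G) (ha : a * a = 1) (i : Multiplicative (ZMod 2)) :
    (i = 1 ∧ homTwo a ha i = 1) ∨ homTwo a ha i = a := by
  rcases zmod_two i.toAdd with h | h
  · left
    refine ⟨by rw [← ofAdd_toAdd i, h]; rfl, ?_⟩
    show (if i.toAdd = 0 then (1 : G) else a) = 1
    rw [if_pos h]
  · right
    show (if i.toAdd = 0 then (1 : G) else a) = a
    rw [h, if_neg (by decide)]

theorem homTwo_one {G : Type*} [Group G] (a : G) (ha : a * a = 1) :
    homTwo a ha (Multiplicative.ofAdd 1) = a := by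
  show (if (1 : ZMod 2) = 0 then (1 : G) else a) = a
  rw [if_neg (by decide)]

theorem homTwo_comm {G : Type*} [Group G] {a b : G} (ha : a * a = 1) (hb : b * b = 1) (hab : a * b = b * a)
    (i j : Multiplicative (ZMod 2)) : Commute (homTwo a ha i) (homTwo b hb j) := by
  rcases homTwo_cases a ha i with ⟨-, h⟩ | h <;> rcases homTwo_cases b hb j with ⟨-, h'⟩ | h' <;> rw [h, h']
  · exact Commute.one_left b
  · exact Commute.one_right a
  · exact hab

theorem of_elts {G : Type*} [Group G] {x a b c : G} (h1 : x * a = b * x) (h2 : x * b = c * x)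
    (h3 : x * c = a * b * x) (ha : a * a = 1) (hab : a * b = b * a) (hac : a * c = c * a) (hx : x ^ 7 = 1)
    (hne : a ≠ 1) : HasFrob G := by
  have h4 : x * (a * b) = b * c * x := by rw [← mul_assoc, h1, mul_assoc, h2, mul_assoc]
  have h5 : x * (b * c) = c * (a * b) * x := by rw [← mul_assoc, h2, mul_assoc, h3, ← mul_assoc]
  have hbc : b * c = c * b := by
    have : x * (a * b) = c * b * x := by rw [hab, ← mul_assoc, h2, mul_assoc, h1, mul_assoc]
    exact mul_right_cancel (h4.symm.trans this)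
  have hb : b * b = 1 := by
    have : x * (a * a) = b * b * x := by rw [← mul_assoc, h1, mul_assoc, h1, mul_assoc]
    rw [ha, mul_one] at this
    exact (mul_right_cancel (this.symm.trans (one_mul x).symm))
  have hc : c * c = 1 := by
    have : x * (b * b) = c * c * x := by rw [← mul_assoc, h2, mul_assoc, h2, mul_assoc]
    rw [hb, mul_one] at this
    exact (mul_right_cancel (this.symm.trans (one_mul x).symm))
  have key : ∀ {u v : G}, x * u = v * x → u ≠ 1 → v ≠ 1 := by
    intro u v h hu hv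
    rw [hv, one_mul] at h
    exact hu (mul_left_cancel (h.trans (mul_one x).symm))
  have nb := key h1 hne
  have nc := key h2 nb
  have nab := key h3 nc
  have nbc := key h4 nab
  have nabc := key h5 nbc
  have h6 : x * (c * (a * b)) = a * c * x := by
    rw [← mul_assoc, h3, mul_assoc (a * b) x, h4, ← mul_assoc]
    congr 1
    rw [mul_assoc a b, ← mul_assoc b b c, hb, one_mul]
  have nac := key h6 nabc
  let f : Multiplicative (ZMod 2) × (Multiplicative (ZMod 2) × Multiplicative (ZMod 2)) →* G :=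
    MonoidHom.noncommCoprod (homTwo a ha) (MonoidHom.noncommCoprod (homTwo b hb) (homTwo c hc)
      (fun i j => homTwo_comm hb hc hbc i j)) (fun i j => (homTwo_comm ha hb hab i j.1).mul_right
        (homTwo_comm ha hc hac i j.2))
  have hf : ∀ i j k, f (i, (j, k)) = homTwo a ha i * (homTwo b hb j * homTwo c hc k) := fun _ _ _ => rfl
  have hinj : Function.Injective f := by
    rw [injective_iff_map_eq_one]
    rintro ⟨i, j, k⟩ h
    rw [hf] at h
    rcases homTwo_cases a ha i with ⟨hi, h'⟩ | h' <;> rcases homTwo_cases b hb j with ⟨hj, h''⟩ | h'' <;>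
      rcases homTwo_cases c hc k with ⟨hk, h'''⟩ | h''' <;> rw [h', h'', h'''] at h <;>
      try simp only [one_mul, mul_one] at h
    · rw [hi, hj, hk]; rfl
    · exact absurd h nc
    · exact absurd h nb
    · exact absurd h nbc
    · exact absurd h hne
    · exact absurd h nac
    · exact absurd h nab
    · refine absurd ?_ nabc
      rw [← mul_assoc, ← hac, mul_assoc, ← hbc]
      exact h
  have mema : a ∈ f.range := ⟨(Multiplicative.ofAdd 1, (1, 1)), by rw [hf, homTwo_one, map_one, map_one]; simp⟩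
  have memb : b ∈ f.range := ⟨(1, (Multiplicative.ofAdd 1, 1)), by
    rw [hf, homTwo_one, map_one (homTwo a ha), map_one (homTwo c hc)]; simp⟩
  have memc : c ∈ f.range := ⟨(1, (1, Multiplicative.ofAdd 1)), by
    rw [hf, homTwo_one, map_one (homTwo a ha), map_one (homTwo b hb)]; simp⟩
  refine ⟨f.range, x, ?_, ?_, ?_, ?_, a, mema, ?_⟩
  · rw [Nat.card_congr (MonoidHom.ofInjective hinj).symm.toEquiv, Nat.card_prod, Nat.card_prod]
    simp
  · rintro _ ⟨⟨i, j, k⟩, rfl⟩
    rw [← map_mul]
    have : ∀ i j k : Multiplicative (ZMod 2), ((i, (j, k)) * (i, (j, k)) :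
        Multiplicative (ZMod 2) × (Multiplicative (ZMod 2) × Multiplicative (ZMod 2))) = 1 := by decide
    rw [this, map_one]
  · rintro _ ⟨⟨i, j, k⟩, rfl⟩
    have hconj : ∀ u v : G, x * (u * v) * x⁻¹ = (x * u * x⁻¹) * (x * v * x⁻¹) := by intro u v; group
    have hcj : ∀ (u v : G) (hu : u * u = 1) (i : Multiplicative (ZMod 2)), x * u = v * x → v ∈ f.range →
        x * homTwo u hu i * x⁻¹ ∈ f.range := by
      intro u v hu i h hv
      rcases homTwo_cases u hu i with ⟨-, h'⟩ | h' <;> rw [h']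
      · rw [mul_one, mul_inv_cancel]; exact one_mem _
      · rw [h, mul_inv_cancel_right]; exact hv
    rw [hf, hconj, hconj]
    exact mul_mem (hcj _ _ _ _ h1 memb) (mul_mem (hcj _ _ _ _ h2 memc) (hcj _ _ _ _ h3 (mul_mem mema memb)))
  · have : Fact (Nat.Prime 7) := ⟨by norm_num⟩
    refine orderOf_eq_prime hx ?_
    rintro rfl
    rw [one_mul, mul_one] at h1 h2 h3
    rw [← h1, ← h2, ← h1, ha] at h3
    exact hne h3
  · intro h
    have e1 : b = a := mul_right_cancel (h1.symm.trans h)
    subst e1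
    have e2 : c = b := mul_right_cancel (h2.symm.trans h1)
    subst e2
    rw [ha, one_mul] at h3
    exact hne (mul_left_cancel (h3.trans (mul_one x).symm))

/-! ### `A₁₀`, `A₁₁` -/

/-- a 7-cycle -/
def x10 : Equiv.Perm (Fin 10) :=
  Equiv.swap 1 2 * Equiv.swap 2 3 * Equiv.swap 3 4 * Equiv.swap 4 5 * Equiv.swap 5 6 * Equiv.swap 6 7

/-- an involution -/
def a10 : Equiv.Perm (Fin 10) := Equiv.swap 0 1 * Equiv.swap 2 4 * Equiv.swap 3 7 * Equiv.swap 5 6

theorem alt_ten : HasFrob (alternatingGroup (Fin 10)) := by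
  have hx : x10 ∈ alternatingGroup (Fin 10) := by
    rw [Equiv.Perm.mem_alternatingGroup]
    decide +kernel
  have ha : a10 ∈ alternatingGroup (Fin 10) := by
    rw [Equiv.Perm.mem_alternatingGroup]
    decide +kernel
  let X : alternatingGroup (Fin 10) := ⟨x10, hx⟩
  let A : alternatingGroup (Fin 10) := ⟨a10, ha⟩
  refine of_elts (x := X) (a := A) (b := X * A * X⁻¹) (c := X * (X * A * X⁻¹) * X⁻¹) ?_ ?_ ?_ ?_ ?_ ?_ ?_ ?_
  · rw [inv_mul_cancel_right]
  · rw [inv_mul_cancel_right]
  · apply Subtype.ext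
    show x10 * (x10 * (x10 * a10 * x10⁻¹) * x10⁻¹) = a10 * (x10 * a10 * x10⁻¹) * x10
    decide +kernel
  · apply Subtype.ext
    show a10 * a10 = 1
    decide +kernel
  · apply Subtype.ext
    show a10 * (x10 * a10 * x10⁻¹) = (x10 * a10 * x10⁻¹) * a10
    decide +kernel
  · apply Subtype.ext
    show a10 * (x10 * (x10 * a10 * x10⁻¹) * x10⁻¹) = (x10 * (x10 * a10 * x10⁻¹) * x10⁻¹) * a10
    decide +kernel
  · apply Subtype.ext
    show x10 ^ 7 = 1
    decide +kernel
  · intro h
    have h1 : a10 = 1 := congrArg Subtype.val h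
    revert h1
    decide +kernel

/-- a 7-cycle -/
def x11 : Equiv.Perm (Fin 11) :=
  Equiv.swap 1 2 * Equiv.swap 2 3 * Equiv.swap 3 4 * Equiv.swap 4 5 * Equiv.swap 5 6 * Equiv.swap 6 7

/-- an involution -/
def a11 : Equiv.Perm (Fin 11) := Equiv.swap 0 1 * Equiv.swap 2 4 * Equiv.swap 3 7 * Equiv.swap 5 6

theorem alt_eleven : HasFrob (alternatingGroup (Fin 11)) := by
  have hx : x11 ∈ alternatingGroup (Fin 11) := by
    rw [Equiv.Perm.mem_alternatingGroup]
    decide +kernel
  have ha : a11 ∈ alternatingGroup (Fin 11) := by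
    rw [Equiv.Perm.mem_alternatingGroup]
    decide +kernel
  let X : alternatingGroup (Fin 11) := ⟨x11, hx⟩
  let A : alternatingGroup (Fin 11) := ⟨a11, ha⟩
  refine of_elts (x := X) (a := A) (b := X * A * X⁻¹) (c := X * (X * A * X⁻¹) * X⁻¹) ?_ ?_ ?_ ?_ ?_ ?_ ?_ ?_
  · rw [inv_mul_cancel_right]
  · rw [inv_mul_cancel_right]
  · apply Subtype.ext
    show x11 * (x11 * (x11 * a11 * x11⁻¹) * x11⁻¹) = a11 * (x11 * a11 * x11⁻¹) * x11
    decide +kernel
  · apply Subtype.ext
    show a11 * a11 = 1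
    decide +kernel
  · apply Subtype.ext
    show a11 * (x11 * a11 * x11⁻¹) = (x11 * a11 * x11⁻¹) * a11
    decide +kernel
  · apply Subtype.ext
    show a11 * (x11 * (x11 * a11 * x11⁻¹) * x11⁻¹) = (x11 * (x11 * a11 * x11⁻¹) * x11⁻¹) * a11
    decide +kernel
  · apply Subtype.ext
    show x11 ^ 7 = 1
    decide +kernel
  · intro h
    have h1 : a11 = 1 := congrArg Subtype.val h
    revert h1
    decide +kernel

/-! ### `M₂₂` and its overgroups -/

open Cfsg.Agent.GH.LowRankMathieu Cfsg.Agent.J4Type.CocodeMask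
open Cfsg.Agent.SporadicA.GolayPerm hiding pcomp papp_pcomp

/-- tables -/
def PX : ℕ := 981594334888381440694488506978388288
def Pa : ℕ := 984492998717364844942742504411088480
def Pb : ℕ := 966401083368505704881755728864725600
def Pc : ℕ := 984675557902847314646668437778185824

theorem m22 : HasFrob Spor.M22 := by
  have tX := isT_mk22 PX (by decide +kernel) (by decide +kernel) (by decide +kernel)
  have ta := isT_mk22 Pa (by decide +kernel) (by decide +kernel) (by decide +kernel)
  have tb := isT_mk22 Pb (by decide +kernel) (by decide +kernel) (by decide +kernel)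
  have tc := isT_mk22 Pc (by decide +kernel) (by decide +kernel) (by decide +kernel)
  refine of_elts ((tX.mul ta).eq ?_) ((tX.mul tb).eq ?_) ((tX.mul tc).eq ?_) (ta.sq (by decide +kernel))
    (ta.comm tb (by decide +kernel)) (ta.comm tc (by decide +kernel)) ?_ ?_
  · have h := tb.mul tX
    rwa [show pcomp Pb PX = pcomp PX Pa by decide +kernel] at h
  · have h := tc.mul tX
    rwa [show pcomp Pc PX = pcomp PX Pb by decide +kernel] at h
  · have h := (ta.mul tb).mul tX
    rwa [show pcomp (pcomp Pa Pb) PX = pcomp PX Pc by decide +kernel] at h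
  · have h := tX.mul (tX.mul (tX.mul (tX.mul (tX.mul (tX.mul tX)))))
    rw [show pcomp PX (pcomp PX (pcomp PX (pcomp PX (pcomp PX (pcomp PX PX))))) = pone by decide +kernel] at h
    rw [← h.eq isT_one]
    simp only [pow_succ, pow_zero, one_mul, mul_assoc]
  · intro h
    rw [h] at ta
    have h1 := ta (some 1)
    have e : Cfsg.Agent.SporadicA.GolayBase.idx (some 1 : GolayPt) = 1 := by decide +kernel
    have h2 : (((1 : Spor.M22) : Equiv.Perm GolayPt) (some 1)) = some 1 := rfl
    rw [h2, e] at h1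
    revert h1
    decide +kernel

theorem m23 : HasFrob Spor.M23 :=
  m22.map (Subgroup.inclusion (inf_le_left : Spor.M22 ≤ Spor.M23)) (Subgroup.inclusion_injective _)

theorem mcl : HasFrob Spor.McL := m22.map _ Cfsg.Agent.H45.Thin.Leech.embM_injective

theorem hs : HasFrob Spor.HS := m22.map _ Cfsg.Agent.H45.Thin.Leech.embH_injective

/-- **Frobenius groups `2^3:7`** -/
theorem exists_frob {G : Type*} [Group G]
    (h : Nonempty (G ≃* alternatingGroup (Fin 10)) ∨ Nonempty (G ≃* alternatingGroup (Fin 11)) ∨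
      Spor.IsoM22 G ∨ Spor.IsoM23 G ∨ Spor.IsoMcL G) :
    ∃ (E : Subgroup G) (x : G), Nat.card E = 8 ∧ (∀ e ∈ E, e * e = 1) ∧ (∀ e ∈ E, x * e * x⁻¹ ∈ E) ∧
      orderOf x = 7 ∧ ∃ e ∈ E, x * e ≠ e * x := by
  rcases h with ⟨⟨e⟩⟩ | ⟨⟨e⟩⟩ | ⟨⟨e⟩⟩ | ⟨⟨e⟩⟩ | ⟨⟨e⟩⟩
  · exact alt_ten.map e.symm.toMonoidHom e.symm.injective
  · exact alt_eleven.map e.symm.toMonoidHom e.symm.injective
  · exact m22.map e.symm.toMonoidHom e.symm.injective
  · exact m23.map e.symm.toMonoidHom e.symm.injective
  · exact mcl.map e.symm.toMonoidHom e.symm.injective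

end Cfsg.Agent.H852.FrobElts
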