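import Mathlib

/-!
# Frobenius groups acting on abelian groups (helper852)

`frob_fix` : `H` acts on the finite abelian group `V` by `ρ`, `φ : K →* H` with `K` finite of order prime to `|V|`,
`f : H` with `f φ(k) = φ(α k) f`, `f ^ r = 1`, `k ↦ k (αⁱ k)⁻¹` injective for `0 < i < r` (Frobenius action of `f` on
`K`) and `C_V(f) = 1`: then `φ(K)` acts trivially on `V`.

`frob_fix_cyclic` : the case of a cyclic kernel `⟨y⟩` of prime order.
-/

set_option autoImplicit false

namespace Cfsg.Agent.H852.FrobFix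

open Finset

variable {V H K : Type*} [CommGroup V] [Group H] [Group K]

/-- **Frobenius groups: if the complement has no fixed points on `V`, then the kernel acts trivially.** -/
theorem frob_fix [Finite V] [Finite K] (ρ : H →* MulAut V) (φ : K →* H) (f : H) (α : K →* K)
    (hα : ∀ k, f * φ k = φ (α k) * f) (r : ℕ) (hr : 0 < r) (hf : f ^ r = 1)
    (hinj : ∀ i, 0 < i → i < r → Function.Injective fun k : K => k * ((⇑α)^[i] k)⁻¹)
    (hcop : (Nat.card V).Coprime (Nat.card K)) (hfix : ∀ v, ρ f v = v → v = 1) (k : K) (v : V) :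
    ρ (φ k) v = v := by
  classical
  have _ := Fintype.ofFinite K
  -- the iterates
  have hpow : ∀ (i : ℕ) (k : K), f ^ i * φ k = φ ((⇑α)^[i] k) * f ^ i := by
    intro i
    induction i with
    | zero => intro k; simp
    | succ i ih =>
      intro k
      rw [pow_succ, mul_assoc, hα, ← mul_assoc, ih, mul_assoc, ← pow_succ, Function.iterate_succ_apply]
  have hinv : ∀ (i : ℕ) (k : K), (⇑α)^[i] k⁻¹ = ((⇑α)^[i] k)⁻¹ := by
    intro i
    induction i with
    | zero => intro k; rfl
    | succ i ih => intro k; rw [Function.iterate_succ_apply, Function.iterate_succ_apply, map_inv, ih]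
  -- the norm of `f`
  have hN : ∀ v : V, ∏ i ∈ range r, ρ (f ^ i) v = 1 := by
    intro v
    apply hfix
    rw [map_prod]
    have h1 : ∏ i ∈ range r, ρ f (ρ (f ^ i) v) = ∏ i ∈ range r, ρ (f ^ (i + 1)) v := by
      apply prod_congr rfl
      intro i _
      rw [pow_succ', map_mul, MulAut.mul_apply]
    rw [h1]
    obtain ⟨s, rfl⟩ : ∃ s, r = s + 1 := ⟨r - 1, by omega⟩
    rw [prod_range_succ, prod_range_succ' _ s, hf, pow_zero]
  -- the conjugates
  have hC : ∀ (k : K) (v : V), ∏ i ∈ range r, ρ (φ (k * ((⇑α)^[i] k)⁻¹) * f ^ i) v = 1 := by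
    intro k v
    have h1 : ∀ i, φ (k * ((⇑α)^[i] k)⁻¹) * f ^ i = φ k * (f ^ i * φ k⁻¹) := by
      intro i
      rw [hpow, hinv, map_mul, mul_assoc]
    have h2 : ∏ i ∈ range r, ρ (φ (k * ((⇑α)^[i] k)⁻¹) * f ^ i) v =
        ρ (φ k) (∏ i ∈ range r, ρ (f ^ i) (ρ (φ k⁻¹) v)) := by
      rw [map_prod]
      apply prod_congr rfl
      intro i _
      rw [h1, map_mul, map_mul, MulAut.mul_apply, MulAut.mul_apply]
    rw [h2, hN, map_one]
  -- sum over `K`
  have hK : ∀ v : V, v ^ Nat.card K = ∏ k : K, ρ (φ k) v := by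
    intro v
    have h1 : ∏ k : K, ∏ i ∈ range r, ρ (φ (k * ((⇑α)^[i] k)⁻¹) * f ^ i) v = 1 :=
      prod_eq_one fun k _ => hC k v
    rw [prod_comm] at h1
    have h2 : ∀ i ∈ range r, ∏ k : K, ρ (φ (k * ((⇑α)^[i] k)⁻¹) * f ^ i) v =
        if i = 0 then v ^ Nat.card K else ∏ k : K, ρ (φ k) (ρ (f ^ i) v) := by
      intro i hi
      split_ifs with h0
      · subst h0
        simp only [Function.iterate_zero, id_eq, mul_inv_cancel, map_one, pow_zero, mul_one, MulAut.one_apply,
          prod_const, card_univ, Nat.card_eq_fintype_card]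
      · have hb : Function.Bijective fun k : K => k * ((⇑α)^[i] k)⁻¹ :=
          Finite.injective_iff_bijective.1 (hinj i (Nat.pos_of_ne_zero h0) (mem_range.1 hi))
        rw [← Function.Bijective.prod_comp hb (fun k => ρ (φ k) (ρ (f ^ i) v))]
        apply prod_congr rfl
        intro k _
        rw [map_mul, MulAut.mul_apply]
    rw [prod_congr rfl h2] at h1
    obtain ⟨s, rfl⟩ : ∃ s, r = s + 1 := ⟨r - 1, by omega⟩
    rw [prod_range_succ' _ s] at h1
    simp only [Nat.add_eq_zero_iff, one_ne_zero, and_false, if_false, if_true] at h1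
    rw [prod_comm] at h1
    have h3 : ∀ k : K, ∏ i ∈ range s, ρ (φ k) (ρ (f ^ (i + 1)) v) = (ρ (φ k) v)⁻¹ := by
      intro k
      rw [← map_prod]
      have h4 := hN v
      rw [prod_range_succ' _ s, pow_zero, map_one, MulAut.one_apply] at h4
      rw [eq_inv_of_mul_eq_one_left h4, map_inv]
    rw [prod_congr rfl (fun k _ => h3 k), prod_inv_distrib] at h1
    exact (inv_mul_eq_one.1 h1).symm
  -- conclusion
  have h1 : (ρ (φ k) v) ^ Nat.card K = v ^ Nat.card K := by
    rw [← map_pow, hK v, map_prod]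
    rw [← Function.Bijective.prod_comp (Group.mulLeft_bijective k) (fun k => ρ (φ k) v)]
    apply prod_congr rfl
    intro k' _
    rw [map_mul, map_mul, MulAut.mul_apply]
  have h2 : (ρ (φ k) v * v⁻¹) ^ Nat.card K = 1 := by
    rw [mul_pow, h1, inv_pow, mul_inv_cancel]
  have h3 : ρ (φ k) v * v⁻¹ = 1 := by
    have h4 : orderOf (ρ (φ k) v * v⁻¹) ∣ Nat.gcd (Nat.card V) (Nat.card K) :=
      Nat.dvd_gcd (orderOf_dvd_natCard _) (orderOf_dvd_of_pow_eq_one h2)
    rw [hcop] at h4
    exact orderOf_eq_one_iff.1 (Nat.dvd_one.1 h4)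
  rw [mul_inv_eq_one] at h3
  exact h3

/-- The case of a kernel of prime order. -/
theorem frob_fix_cyclic [Finite V] (ρ : H →* MulAut V) {p : ℕ} (hp : p.Prime) (y f : H) (hy : y ^ p = 1)
    (r : ℕ) (hr : 0 < r) (hf : f ^ r = 1) (m : ℕ) (hm : f * y * f⁻¹ = y ^ m)
    (hord : ∀ i, 0 < i → i < r → ¬ m ^ i ≡ 1 [MOD p])
    (hcop : ¬ p ∣ Nat.card V) (hfix : ∀ v, ρ f v = v → v = 1) (v : V) : ρ y v = v := by
  have : Fact p.Prime := ⟨hp⟩
  let φ : Multiplicative (ZMod p) →* H :=
    { toFun := fun k => y ^ (Multiplicative.toAdd k).val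
      map_one' := by simp
      map_mul' := by
        intro a b
        rw [toAdd_mul, ZMod.val_add, ← pow_add]
        exact (pow_eq_pow_mod _ hy).symm }
  have hφ : ∀ k, φ k = y ^ (Multiplicative.toAdd k).val := fun _ => rfl
  have hα : ∀ k, f * φ k = φ ((powMonoidHom m : Multiplicative (ZMod p) →* Multiplicative (ZMod p)) k) * f := by
    intro k
    have h1 : f * φ k * f⁻¹ = φ (powMonoidHom m k) := by
      rw [powMonoidHom_apply, map_pow, hφ, conj_pow.symm, hm, ← pow_mul, ← pow_mul, mul_comm]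
    rw [← h1]
    group
  have hit : ∀ (i : ℕ) (k : Multiplicative (ZMod p)), (⇑(powMonoidHom m : Multiplicative (ZMod p) →* _))^[i] k = k ^ m ^ i := by
    intro i
    induction i with
    | zero => intro k; simp
    | succ i ih =>
      intro k
      rw [Function.iterate_succ_apply', ih, powMonoidHom_apply, ← pow_mul, ← pow_succ]
  have h1 := frob_fix ρ φ f (powMonoidHom m) hα r hr hf (by
    intro i h0 hi a b hab
    simp only [hit] at hab
    have h2 : Multiplicative.toAdd a - (m ^ i : ℕ) • Multiplicative.toAdd a =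
      Multiplicative.toAdd b - (m ^ i : ℕ) • Multiplicative.toAdd b := by
      have := congrArg Multiplicative.toAdd hab
      simpa [sub_eq_add_neg] using this
    rw [nsmul_eq_mul, nsmul_eq_mul] at h2
    have h3 : (1 - ((m ^ i : ℕ) : ZMod p)) * (Multiplicative.toAdd a - Multiplicative.toAdd b) = 0 := by
      linear_combination h2
    rcases mul_eq_zero.1 h3 with h4 | h4
    · exfalso
      apply hord i h0 hi
      rw [← ZMod.natCast_eq_natCast_iff, Nat.cast_one]
      exact (sub_eq_zero.1 h4).symm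
    · exact Multiplicative.toAdd.injective (sub_eq_zero.1 h4)) (by
    rw [Nat.card_congr Multiplicative.toAdd, Nat.card_zmod]
    exact (hp.coprime_iff_not_dvd.2 hcop).symm) hfix (Multiplicative.ofAdd 1) v
  have h2 : φ (Multiplicative.ofAdd 1) = y := by
    rw [hφ, toAdd_ofAdd, ZMod.val_one, pow_one]
  rwa [h2] at h1

end Cfsg.Agent.H852.FrobFix
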