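import Cfsg.Agent.H852.RealRank
import Cfsg.Agent.SuzThree.Basic
import Cfsg.Agent.SporadicB.HePerm.Rep
import Cfsg.Agent.NotCT.Orders
import Cfsg.Agent.H852.IMSuz

/-!
# REALB0: the rows `Suz` and `He` (helper852)

Real elements of order divisible by `p`: products of two words conjugate to generators.
-/

set_option autoImplicit false
set_option maxRecDepth 100000
open Cfsg

namespace Cfsg.Agent.H852.RealSuz

open Cfsg.Agent.H702.RealB0 Cfsg.Agent.H852.RealRank

section suz

open Cfsg.Spor Cfsg.Agent.Lib.PermNet Cfsg.Agent.SporadicRecognition.SuzPhi Cfsg.Agent.SporadicRecognition.SuzOrder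

theorem suz_word_pow (u : List Suz.Gen) (n i : ℕ) :
    ((φ ((u.map fun x => (PresentedGroup.of x : Suz)).prod)) ^ n) i = ptWord (wd (rp u n)) i := by
  rw [ptWord_eq (wd_ok _), wperm_wd, rp_prod, ← wperm_wd, ← φ_el]
  rfl

theorem suz_of (p : ℕ) [Fact p.Prime] (w : List Suz.Gen) (x y : Suz.Gen) (i : ℕ) (hfin : Finite Suz)
    (h1 : Nat.beq (ptWord (wd (rp (y :: pal w x) p)) i) i = true)
    (h2 : Nat.beq (ptWord (wd (rp (y :: pal w x) 1)) i) i = false) : HasReal p Suz := by
  refine hasReal_of_pal (fun x => (PresentedGroup.of x : Suz)) ?_ φ w x y 1 i ?_ ?_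
  · intro x
    have := Cfsg.Agent.SuzThree.Basic.gen_sq x
    simpa [el] using this
  · rw [mul_one, suz_word_pow]
    exact Nat.eq_of_beq_eq_true h1
  · rw [suz_word_pow]
    intro h
    rw [h, Nat.beq_refl] at h2
    exact Bool.noConfusion h2

theorem suz {p : ℕ} [hp' : Fact p.Prime] (hp2 : p ≠ 2) {X : Type} [Group X] (hd : p ∣ Nat.card X)
    (h : Spor.IsoSuz X) : HasReal p X := by
  have hc : Nat.card Spor.Suz = 448345497600 := Cfsg.Agent.NotCT.Orders.suz ⟨MulEquiv.refl _⟩
  have hfin : Finite Spor.Suz := Nat.finite_of_card_ne_zero (by rw [hc]; norm_num)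
  rw [Cfsg.Agent.NotCT.Orders.suz h] at hd
  obtain ⟨e⟩ := h
  refine HasReal.congr e.symm ?_
  have hm := Cfsg.Agent.H852.IMSuz.prime_cases' hp'.out [2, 3, 5, 7, 11, 13] (by decide) 13 hd (by norm_num)
  simp only [List.mem_cons, List.not_mem_nil, or_false] at hm
  rcases hm with rfl | rfl | rfl | rfl | rfl | rfl
  · exact absurd rfl hp2
  · exact suz_of 3 [] .b .c 1 hfin (by decide +kernel) (by decide +kernel)
  · exact suz_of 5 [] .b .a 1 hfin (by decide +kernel) (by decide +kernel)
  · exact suz_of 7 [.c, .d, .b, .g, .f, .a, .f, .b, .g, .c] .d .d 0 hfin (by decide +kernel) (by decide +kernel)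
  · exact suz_of 11 [.c, .b, .a, .d, .f, .d, .c, .f, .a, .g, .d, .c, .e, .a, .d, .f, .c, .d, .b, .d, .f, .c, .e, .a, .b, .d]
      .e .d 0 hfin (by decide +kernel) (by decide +kernel)
  · exact suz_of 13 [.a, .d, .c, .b, .a, .e, .d, .c, .b, .f, .d, .g, .e, .d, .a, .f, .c, .e, .b, .e, .g, .b, .c, .b, .c, .e]
      .d .e 0 hfin (by decide +kernel) (by decide +kernel)

end suz

section he

open Cfsg.Spor Cfsg.Spor.He Cfsg.Agent.SporadicB.HePerm

theorem he_sq (x : Gen) : (PresentedGroup.of x : He) * PresentedGroup.of x = 1 := by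
  have h := Cfsg.Agent.SporadicRecognition.CoxPres.cox_rel (edges := edges) (extra := extra) x x
    (by cases x <;> decide) (by cases x <;> decide)
  rwa [show coxLabel edges x x = 1 from if_pos rfl, pow_one] at h

theorem he_word_pow (u : List Gen) (n : ℕ) (i : Fin 2058) :
    (((phi ((u.map fun x => (PresentedGroup.of x : He)).prod)) ^ n) i : Fin 2058).val = act (powWord u n) i := by
  rw [map_list_prod, List.map_map, ← prod_apply, powWord_prod]
  rfl

theorem he_of (p : ℕ) [Fact p.Prime] (w : List Gen) (x y : Gen) (i : Fin 2058) (hfin : Finite He)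
    (h1 : Nat.beq (act (powWord (y :: pal w x) p) i.val) i.val = true)
    (h2 : Nat.beq (act (powWord (y :: pal w x) 1) i.val) i.val = false) : HasReal p He := by
  refine hasReal_of_pal (fun x => (PresentedGroup.of x : He)) he_sq phi w x y 1 i ?_ ?_
  · rw [mul_one]
    apply Fin.ext
    rw [he_word_pow]
    exact Nat.eq_of_beq_eq_true h1
  · intro h
    have h3 := congrArg Fin.val h
    rw [he_word_pow] at h3
    rw [h3, Nat.beq_refl] at h2
    exact Bool.noConfusion h2

theorem he {p : ℕ} [hp' : Fact p.Prime] (hp2 : p ≠ 2) {X : Type} [Group X] (hd : p ∣ Nat.card X)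
    (h : Spor.IsoHe X) : HasReal p X := by
  have hc : Nat.card Spor.He = 4030387200 := Cfsg.Agent.NotCT.Orders.he ⟨MulEquiv.refl _⟩
  have hfin : Finite Spor.He := Nat.finite_of_card_ne_zero (by rw [hc]; norm_num)
  rw [Cfsg.Agent.NotCT.Orders.he h] at hd
  obtain ⟨e⟩ := h
  refine HasReal.congr e.symm ?_
  have hm := Cfsg.Agent.H852.IMSuz.prime_cases' hp'.out [2, 3, 5, 7, 17] (by decide) 10 hd (by norm_num)
  simp only [List.mem_cons, List.not_mem_nil, or_false] at hm
  rcases hm with rfl | rfl | rfl | rfl | rfl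
  · exact absurd rfl hp2
  · exact he_of 3 [] .b .c 0 hfin (by decide +kernel) (by decide +kernel)
  · exact he_of 5 [] .d .c 1 hfin (by decide +kernel) (by decide +kernel)
  · exact he_of 7 [.a, .b, .c, .d, .f, .b, .e, .f, .c, .a] .d .d 0 hfin (by decide +kernel) (by decide +kernel)
  · exact he_of 17 [.d, .a, .c, .f, .d, .c, .b, .g, .c, .d] .g .e 0 hfin (by decide +kernel) (by decide +kernel)

end he

end Cfsg.Agent.H852.RealSuz
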