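import Cfsg.Agent.H584.NC.PIBasic
import Cfsg.Agent.S0813
import Cfsg.Agent.S0265
import Cfsg.Agent.S0679
import Cfsg.Agent.SmallSimple.PSLTwoPart
import Cfsg.Agent.ClassicalGeometry.PSL2Basic

/-!
# The case `PSL₂(11)`, degree 11, of S4386 (helper852)
-/

set_option autoImplicit false

namespace Cfsg.Agent.H852.NCPsl11

open Cfsg Subgroup Cfsg.Agent.H584.NC MulAction

universe u

instance : Fact (Nat.Prime 11) := ⟨by norm_num⟩

theorem card_psl : Nat.card (Matrix.ProjectiveSpecialLinearGroup (Fin 2) (ZMod 11)) = 660 := by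
  have h := Cfsg.Agent.SmallSimple.PSLTwoPart.card_psl_two_odd (F := ZMod 11) (by rw [ZMod.card]; decide)
  rw [ZMod.card] at h
  omega

theorem card_aut : Nat.card (MulAut (Matrix.ProjectiveSpecialLinearGroup (Fin 2) (ZMod 11))) = 1320 := by
  rw [Cfsg.Agent.S0813.result 11 1 le_rfl (by rw [ZMod.card, pow_one]) 2 le_rfl (fun _ => by norm_num),
    Cfsg.Agent.S0265.result, Cfsg.Agent.ClassicalGeometry.PSL2Basic.card_SL2, ZMod.card]
  norm_num

variable {G : Type u} [Group G] [Finite G] {S M : Subgroup G}

/-- **task 486.** -/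
theorem psl11 (h : PI S M 11) (e : S ≃* Matrix.ProjectiveSpecialLinearGroup (Fin 2) (ZMod 11)) : S = ⊤ := by
  have hn := h.normal
  -- `|G| ≤ 1320`
  have hle : Nat.card G ≤ 1320 := by
    have h1 : Function.Injective (MulAut.conjNormal : G →* MulAut S) := by
      rw [injective_iff_map_eq_one]
      intro g hg
      have h2 : g ∈ centralizer (S : Set G) := by
        rw [mem_centralizer_iff]
        intro t ht
        have h3 : ((MulAut.conjNormal g (⟨t, ht⟩ : S) : S) : G) = t := by rw [hg]; rfl
        rw [MulAut.conjNormal_apply] at h3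
        have h4 : g * t * g⁻¹ = t := h3
        rw [mul_inv_eq_iff_eq_mul] at h4
        exact h4.symm
      rw [h.cent, mem_bot] at h2
      exact h2
    have : Finite (MulAut S) := inferInstance
    have h2 := Nat.card_le_card_of_injective _ h1
    rwa [Nat.card_congr (MulAut.congr e).toEquiv, card_aut] at h2
  have hS : Nat.card S = 660 := by rw [Nat.card_congr e.toEquiv, card_psl]
  have hf := h.faithful h.M_ne_top h.sup
  have hinj : Function.Injective (MulAction.toPermHom G (G ⧸ M)) := MulAction.toPerm_injective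
  have hfin : Fintype (G ⧸ M) := Fintype.ofFinite _
  have hdec : DecidableEq (G ⧸ M) := Classical.decEq _
  have hcard : Fintype.card (G ⧸ M) = 11 := by rw [← Nat.card_eq_fintype_card]; exact h.card_points
  let R : Subgroup (Equiv.Perm (G ⧸ M)) := (MulAction.toPermHom G (G ⧸ M)).range
  let ψ : G ≃* R := MonoidHom.ofInjective hinj
  have hR : Nat.card R = Nat.card G := Nat.card_congr ψ.symm.toEquiv
  have htr : MulAction.IsPretransitive R (G ⧸ M) := by
    constructor
    intro x y
    obtain ⟨g, hg⟩ := MulAction.exists_smul_eq G x y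
    exact ⟨ψ g, hg⟩
  have hns : ¬ Group.IsSolvable R := by
    intro h1
    apply h.nonsol
    exact Group.isSolvable_of_isSolvable_injective (f := ψ.toMonoidHom.comp S.subtype)
      (ψ.injective.comp S.subtype_injective)
  have hA : ¬ alternatingGroup (G ⧸ M) ≤ R := by
    intro h1
    have h2 := Nat.card_le_card_of_injective _ (Subgroup.inclusion_injective h1)
    rw [hR] at h2
    have hnt : Nontrivial (G ⧸ M) := by
      rw [← Fintype.one_lt_card_iff_nontrivial, hcard]
      norm_num
    have h3 := two_mul_nat_card_alternatingGroup (α := G ⧸ M)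
    have h4 : Nat.card (Equiv.Perm (G ⧸ M)) = 39916800 := by
      rw [Nat.card_perm, h.card_points]
      decide
    omega
  rcases Cfsg.Agent.S0679.result hcard R hns hA with ⟨h4, hst⟩ | ⟨⟨f⟩⟩
  · exfalso
    obtain ⟨x⟩ : Nonempty (Fin 4 ↪ (G ⧸ M)) := by
      rw [Function.Embedding.nonempty_iff_card_le, hcard, Fintype.card_fin]
      norm_num
    have h5 := @MulAction.index_stabilizer_of_transitive R (Fin 4 ↪ (G ⧸ M)) _ _ x h4
    have h6 : Nat.card (Fin 4 ↪ (G ⧸ M)) = 7920 := by
      rw [Nat.card_eq_fintype_card, Fintype.card_embedding_eq, hcard, Fintype.card_fin]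
      decide
    have h7 : 7920 ≤ Nat.card R := by
      rw [← h6, ← h5]
      exact Nat.le_of_dvd Nat.card_pos (index_dvd_card _)
    rw [hR] at h7
    omega
  · have h1 : Nat.card G = 660 := by rw [← hR, Nat.card_congr f.toEquiv, card_psl]
    exact (card_eq_iff_eq_top S).1 (hS.trans h1.symm)

end Cfsg.Agent.H852.NCPsl11
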