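import Cfsg.Agent.QTUnique.HS
import Cfsg.Agent.H516.TwoFrame
import Cfsg.Agent.HN.ForallS

/-!
# `HS` is generated by the normalizers of two subgroups of a Sylow 2-subgroup `T` invariant under the automorphisms
normalizing `T`: `Z(T) = ⟨z⟩` and the four-group of the involutions (and 1) `x` of `T` with `[x, T] ≤ ⟨z⟩`.
-/

set_option autoImplicit false
set_option maxRecDepth 100000

namespace Cfsg.Agent.H852.NxcHS

open Cfsg Subgroup Cfsg.Agent.HN Cfsg.Agent.HN.Pres Cfsg.Agent.HN.HS100 Cfsg.Agent.HN.H0Basic Cfsg.Agent.HN.P1408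
open Cfsg.Agent.HN.Classes Cfsg.Agent.HN.ForallS Cfsg.Agent.KFacts.HS Cfsg.Agent.QTUnique.HS
open Cfsg.Agent.SporadicA.PermTab

/-- the words of two elements of `T` -/
def g1 : List ℕ := Syl.sw 8 ++ Syl.sw 10
def g2 : List ℕ := Syl.sw 8 ++ Syl.sw 9

/-- `w g ≠ g w`, seen at the point `0` -/
def nc (w g : List ℕ) : Bool := Syl.neB (t1 (w ++ g) 0) (t1 (g ++ w) 0)

/-- `w g ≠ g w` and `w g ≠ z g w`, seen at the point `0` -/
def nd (w g : List ℕ) : Bool := band (nc w g) (Syl.neB (t1 (w ++ g) 0) (t1 (zw ++ (g ++ w)) 0))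

/-- equality on the 100 points -/
def eqB (w v : List ℕ) : Bool := allB (fun i => Nat.beq (t1 w i) (t1 v i)) 100

/-- or -/
def oo (a b : Bool) : Bool := cond a true b

theorem oo_eq {a b : Bool} (h : oo a b = true) : a = true ∨ b = true := by
  cases a
  · exact Or.inr h
  · exact Or.inl rfl

/-- predicate for the centre -/
def qZ (w : List ℕ) : Bool :=
  band (okw w) (oo (par w) (oo (nc w g1) (oo (nc w g2) (oo (eqB w []) (eqB w zw)))))

/-- predicate for the four-group -/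
def qV (w : List ℕ) : Bool :=
  band (okw w) (oo (par w) (oo (nd w g1) (oo (nd w g2) (oo (Syl.neB (t1 (w ++ w) 0) 0)
    (oo (eqB w []) (oo (eqB w zw) (oo (eqB w yw) (eqB w (zw ++ yw)))))))))

theorem chkZ : allS qZ 10 [] = true := by decide +kernel

theorem chkV : allS qV 10 [] = true := by decide +kernel

theorem ne_of_nc {w g : List ℕ} (h : nc w g = true) : φ (hw w) * φ (hw g) ≠ φ (hw g) * φ (hw w) := by
  intro e
  rw [← map_mul, ← map_mul, ← hw_append, ← hw_append] at e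
  have h1 := congrArg (fun f : Equiv.Perm (Fin 100) => ((f 0 : Fin 100) : ℕ)) e
  exact Syl.neB_iff.1 h ((φ_hw_apply (w ++ g) 0).symm.trans (h1.trans (φ_hw_apply (g ++ w) 0)))

theorem ne_of_nd {w g : List ℕ} (h : nd w g = true) : φ (hw w) * φ (hw g) ≠ φ (hw g) * φ (hw w) ∧
    φ (hw w) * φ (hw g) ≠ φ (hw zw) * (φ (hw g) * φ (hw w)) := by
  have h' : band (nc w g) (Syl.neB (t1 (w ++ g) 0) (t1 (zw ++ (g ++ w)) 0)) = true := h
  rw [band_eq_true] at h'
  refine ⟨ne_of_nc h'.1, fun e => ?_⟩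
  rw [← map_mul, ← map_mul, ← map_mul, ← hw_append, ← hw_append, ← hw_append] at e
  have h1 := congrArg (fun f : Equiv.Perm (Fin 100) => ((f 0 : Fin 100) : ℕ)) e
  exact Syl.neB_iff.1 h'.2 ((φ_hw_apply (w ++ g) 0).symm.trans (h1.trans (φ_hw_apply (zw ++ (g ++ w)) 0)))

theorem eq_of_eqB {w v : List ℕ} (h : eqB w v = true) : φ (hw w) = φ (hw v) :=
  φ_eq_of fun i hi => Nat.eq_of_beq_eq_true ((allB_iff _ _).1 h i hi)

theorem φ_τ' : φ τ = 1 := φ_τ

section

variable {L : Type*} [Group L] (D : KFacts.HS.Mod L)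

/-- elements of `T` as words -/
theorem word_of {Q : List ℕ → Bool} (hQ : allS Q 10 [] = true) (hok : ∀ w, Q w = true → okw w = true) {x : L}
    (hx : x ∈ T D) : ∃ w, Q w = true ∧ par w = false ∧ D.φL x = φ (hw w) := by
  obtain ⟨s, hs, rfl⟩ := hx
  have hS : (s : H0) ∈ Syl.S := FusK0.mem_S0.1 hs
  obtain ⟨w, h1, h2⟩ := forall_S hQ hS
  refine ⟨w, h1, ?_, ?_⟩
  · cases hp : par w with
    | false => rfl
    | true =>
      exfalso
      have hnot := not_mem_K_of_par (hok w h1) hp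
      rcases h2 with h3 | h3
      · exact hnot (h3 ▸ s.2)
      · apply hnot
        have : hw w = τ * (s : H0) := by rw [h3, ← mul_assoc, τ_mul_τ, one_mul]
        rw [this]
        exact K.mul_mem τ_mem_K s.2
  · rw [show D.φL (D.π s) = φ s from D.φL_π s]
    rcases h2 with h3 | h3
    · rw [h3]
    · rw [h3, map_mul, φ_τ', one_mul]

theorem mem_T {w : List ℕ} (hK : hw w ∈ K) (hS : hw w ∈ Syl.S) : D.π ⟨hw w, hK⟩ ∈ T D :=
  ⟨⟨hw w, hK⟩, FusK0.mem_S0.2 hS, rfl⟩

theorem g1K : hw g1 ∈ K := mem_K_of_par rfl rfl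
theorem g2K : hw g2 ∈ K := mem_K_of_par rfl rfl

theorem g1S : hw g1 ∈ Syl.S := by
  rw [g1, hw_append]
  exact Syl.S.mul_mem (Syl.s_mem_S (i := 8) (by norm_num)) (Syl.s_mem_S (i := 10) (by norm_num))

theorem g2S : hw g2 ∈ Syl.S := by
  rw [g2, hw_append]
  exact Syl.S.mul_mem (Syl.s_mem_S (i := 8) (by norm_num)) (Syl.s_mem_S (i := 9) (by norm_num))

/-- the centre of `T` -/
theorem center {x : L} (hx : x ∈ T D) (hc : ∀ t ∈ T D, t * x = x * t) : x = 1 ∨ x = D.z := by
  obtain ⟨w, hQ, hp, hw'⟩ := word_of D chkZ (fun w h => ((band_eq_true _ _).1 h).1) hx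
  have key : ∀ g : List ℕ, ∀ hK : hw g ∈ K, hw g ∈ Syl.S → nc w g = true → False := by
    intro g hK hS hn
    apply ne_of_nc hn
    have h1 := congrArg D.φL (hc _ (mem_T D hK hS))
    rw [map_mul, map_mul, hw', show D.φL (D.π ⟨hw g, hK⟩) = φ (hw g) from D.φL_π _] at h1
    exact h1.symm
  rcases oo_eq ((band_eq_true _ _).1 hQ).2 with h | h
  · rw [hp] at h; cases h
  rcases oo_eq h with h | h
  · exact (key _ g1K g1S h).elim
  rcases oo_eq h with h | h
  · exact (key _ g2K g2S h).elim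
  rcases oo_eq h with h | h
  · left
    apply D.φL_inj
    rw [hw', eq_of_eqB h, hw_nil, map_one, map_one]
  · right
    apply D.φL_inj
    rw [hw', eq_of_eqB h, φL_z]

/-- the four-group -/
theorem mem_VL_of {x : L} (hx : x ∈ T D) (h2 : x * x = 1) (hc : ∀ t ∈ T D, x * t = t * x ∨ x * t = D.z * (t * x)) :
    x ∈ VL D := by
  obtain ⟨w, hQ, hp, hw'⟩ := word_of D chkV (fun w h => ((band_eq_true _ _).1 h).1) hx
  have key : ∀ g : List ℕ, ∀ hK : hw g ∈ K, hw g ∈ Syl.S → nd w g = true → False := by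
    intro g hK hS hn
    obtain ⟨h3, h4⟩ := ne_of_nd hn
    rcases hc _ (mem_T D hK hS) with h | h
    · apply h3
      have h1 := congrArg D.φL h
      rwa [map_mul, map_mul, hw', show D.φL (D.π ⟨hw g, hK⟩) = φ (hw g) from D.φL_π _] at h1
    · apply h4
      have h1 := congrArg D.φL h
      rwa [map_mul, map_mul, map_mul, hw', φL_z, show D.φL (D.π ⟨hw g, hK⟩) = φ (hw g) from D.φL_π _] at h1
  have fin : ∀ v : List ℕ, eqB w v = true → φ (hw v) ∈ V → x ∈ VL D := by
    intro v hv hV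
    show D.φL x ∈ V
    rw [hw', eq_of_eqB hv]
    exact hV
  rcases oo_eq ((band_eq_true _ _).1 hQ).2 with h | h
  · rw [hp] at h; cases h
  rcases oo_eq h with h | h
  · exact (key _ g1K g1S h).elim
  rcases oo_eq h with h | h
  · exact (key _ g2K g2S h).elim
  rcases oo_eq h with h | h
  · exfalso
    have h1 := congrArg D.φL h2
    rw [map_mul, map_one, hw', ← map_mul, ← hw_append] at h1
    have h3 := congrArg (fun f : Equiv.Perm (Fin 100) => ((f 0 : Fin 100) : ℕ)) h1
    exact Syl.neB_iff.1 h ((φ_hw_apply (w ++ w) 0).symm.trans h3)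
  rcases oo_eq h with h | h
  · exact fin _ h (by rw [hw_nil, map_one]; exact V.one_mem)
  rcases oo_eq h with h | h
  · exact fin _ h (Or.inr (Or.inl rfl))
  rcases oo_eq h with h | h
  · exact fin _ h (Or.inr (Or.inr (Or.inl rfl)))
  · exact fin _ h (by rw [hw_append, map_mul]; exact Or.inr (Or.inr (Or.inr rfl)))

theorem mem_T_of {x : L} {w : List ℕ} (hK : hw w ∈ K) (hS : hw w ∈ Syl.S) (h : D.φL x = φ (hw w)) : x ∈ T D := by
  have h1 : x = D.π ⟨hw w, hK⟩ := D.φL_inj (h.trans (D.φL_π ⟨hw w, hK⟩).symm)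
  rw [h1]
  exact mem_T D hK hS

theorem ywK : hw yw ∈ K := mem_K_of_par rfl rfl
theorem zwK : hw zw ∈ K := mem_K_of_par rfl rfl
theorem ywS : hw yw ∈ Syl.S := Syl.s_mem_S (i := 2) (by norm_num)
theorem zwS : hw zw ∈ Syl.S := by
  rw [show hw zw = Syl.a from Syl.hw_a]
  exact Syl.a_mem_S

theorem z_mem_T : D.z ∈ T D := mem_T_of D zwK zwS (φL_z D)

theorem VL_le : VL D ≤ T D := by
  intro x hx
  have hx' : D.φL x ∈ V := hx
  rcases hx' with h | h | h | h
  · rw [D.φL_inj (h.trans (map_one D.φL).symm)]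
    exact one_mem _
  · exact mem_T_of D zwK zwS h
  · exact mem_T_of D ywK ywS h
  · refine mem_T_of D (w := zw ++ yw) ?_ ?_ (h.trans (by rw [hw_append, map_mul]))
    · rw [hw_append]; exact K.mul_mem zwK ywK
    · rw [hw_append]; exact Syl.S.mul_mem zwS ywS

theorem V_pair {a b : Equiv.Perm (Fin 100)} (ha : a ∈ V) (hb : b ∈ V) (ha1 : a ≠ 1) (ha2 : a ≠ φ (hw zw))
    (hb1 : b ≠ 1) (hb2 : b ≠ φ (hw zw)) : a = b ∨ a = φ (hw zw) * b := by
  rcases ha with h | h | h | h
  · exact absurd h ha1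
  · exact absurd h ha2
  · rcases hb with h' | h' | h' | h'
    · exact absurd h' hb1
    · exact absurd h' hb2
    · exact Or.inl (h.trans h'.symm)
    · right
      rw [h, h', ← mul_assoc, zz, one_mul]
  · rcases hb with h' | h' | h' | h'
    · exact absurd h' hb1
    · exact absurd h' hb2
    · right
      rw [h, h']
    · exact Or.inl (h.trans h'.symm)

theorem VL_prop {x : L} (hx : x ∈ VL D) : x ∈ T D ∧ x * x = 1 ∧ ∀ t ∈ T D, x * t = t * x ∨ x * t = D.z * (t * x) := by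
  refine ⟨VL_le D hx, ?_, ?_⟩
  · apply D.φL_inj
    rw [map_mul, map_one]
    have hx' : D.φL x ∈ V := hx
    rcases hx' with h | h | h | h
    · rw [h, one_mul]
    · rw [h, zz]
    · rw [h, yy]
    · rw [h]
      calc φ (hw zw) * φ (hw yw) * (φ (hw zw) * φ (hw yw))
          = φ (hw zw) * (φ (hw yw) * φ (hw zw)) * φ (hw yw) := by group
        _ = φ (hw zw) * φ (hw zw) * (φ (hw yw) * φ (hw yw)) := by rw [← zy]; group
        _ = 1 := by rw [zz, yy, one_mul]
  · intro t ht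
    by_cases h1 : x = 1
    · left; rw [h1, one_mul, mul_one]
    by_cases hz : x = D.z
    · left; rw [hz]; exact (T_z D ht).symm
    have hV : t * x * t⁻¹ ∈ VL D := (mem_normalizer_iff.1 (T_le D ht) x).1 hx
    have h1' : D.φL x ≠ 1 := fun h => h1 (D.φL_inj (h.trans (map_one D.φL).symm))
    have hz' : D.φL x ≠ φ (hw zw) := fun h => hz (D.φL_inj (h.trans (φL_z D).symm))
    have h2 : D.φL (t * x * t⁻¹) ≠ 1 := by
      intro h
      apply h1
      have h3 := D.φL_inj (h.trans (map_one D.φL).symm)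
      exact conj_eq_one_iff.1 h3
    have h3 : D.φL (t * x * t⁻¹) ≠ φ (hw zw) := by
      intro h
      apply hz
      have h4 := D.φL_inj (h.trans (φL_z D).symm)
      have h5 : t * x = D.z * t := mul_inv_eq_iff_eq_mul.1 h4
      rw [← T_z D ht] at h5
      exact mul_left_cancel h5
    rcases V_pair hx hV h1' hz' h2 h3 with h | h
    · left
      have h4 := D.φL_inj h
      exact eq_mul_inv_iff_mul_eq.1 h4
    · right
      rw [← φL_z D, ← map_mul] at h
      have h4 := D.φL_inj h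
      rw [← mul_assoc] at h4
      rw [eq_mul_inv_iff_mul_eq.1 h4]

theorem T_ne_top : (T D : Subgroup L) ≠ ⊤ := by
  have h2 : Fact (Nat.Prime 2) := ⟨Nat.prime_two⟩
  have hfin : Finite L := D.finite
  intro h
  have h1 : IsPGroup 2 L := by
    have h3 := (T D).isPGroup'
    rw [h] at h3
    exact h3.of_equiv Subgroup.topEquiv
  obtain ⟨n, hn⟩ := IsPGroup.iff_card.1 h1
  rw [D.card] at hn
  have h3 : 5 ∣ 2 ^ n := by rw [← hn]; norm_num
  have h5 := (by norm_num : Nat.Prime 5).dvd_of_dvd_pow h3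
  omega

include D in
theorem nxc_of_mod : H516.Two.NXC L := by
  have hfin : Finite L := D.finite
  have hzfix : ∀ α : MulAut L, (T D : Subgroup L).map α.toMonoidHom = T D → α D.z = D.z := fun α hα =>
    H516.Two.fix_of_center D.z1 (z_mem_T D) (fun t ht => T_z D ht) (fun y hy hc => center D hy hc) hα
  refine ⟨T D, fun Y hY => eq_top D ?_ ?_⟩
  · refine (QTUnique.centralizer_le_normalizer_zpowers _).trans (hY (zpowers D.z) ?_ ?_ (H516.Two.inv_zpowers hzfix))
    · rw [Ne, zpowers_eq_bot]; exact D.z1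
    · intro h
      apply T_ne_top D
      rw [eq_top_iff, ← h, zpowers_le]
      exact z_mem_T D
  · refine hY (VL D) (VL_ne D) ?_ ?_
    · intro h
      apply T_ne_top D
      rw [eq_top_iff, ← h]
      exact VL_le D
    · exact H516.Two.inv_of_second D.z1 (z_mem_T D) (fun t ht => T_z D ht) (fun y hy hc => center D hy hc)
        (fun x => ⟨fun hx => VL_prop D hx, fun h => mem_VL_of D h.1 h.2.1 h.2.2⟩)

end

/-- **`HS`.** -/
theorem nxc {S : Type*} [Group S] (h : Spor.IsoHS S) : H516.Two.NXC S := by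
  obtain ⟨D⟩ := exists_mod h
  exact nxc_of_mod D

end Cfsg.Agent.H852.NxcHS
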