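import Cfsg.Agent.H852.FrobElts
import Cfsg.Agent.OrdDiv.Main

/-!
# Simple groups of the orders of `M₂₂`, `M₂₃`, `McL`; Frobenius groups `2^3:7` (helper852, for S5117)
-/

set_option autoImplicit false

namespace Cfsg.Agent.H852.FrobOrd

open Cfsg Subgroup Cfsg.Agent.OrdDiv

universe u

theorem not_comm {G : Type*} [Group G] [Finite G] (h : IsSimpleGroup G) (hp : ¬ (Nat.card G).Prime) :
    ¬ ∀ a b : G, a * b = b * a := by
  intro hc
  let _ : CommGroup G := { (inferInstance : Group G) with mul_comm := hc }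
  exact hp (IsSimpleGroup.prime_card (α := G))

variable {G : Type u} [Group G] [Finite G] (T : OrderTable.{u}) (hk : IsSimpleGroup G → IsKnownSimple' G)

include T hk

theorem m22 (h : IsM22 G) : Spor.IsoM22 G := by
  have := h.1
  obtain ⟨g, hg, hr⟩ := exists_real_filter T (hk h.1) (not_comm h.1 (by rw [h.2]; norm_num))
    (l := [(2, 7), (3, 2), (5, 1), (7, 1), (11, 1)]) (N := 443520) (by decide +kernel) (by rw [h.2])
    (fun n => n == 443520) (by rw [h.2]; rfl)
  rw [show (cands [(2, 7), (3, 2), (5, 1), (7, 1), (11, 1)] 443520).filter (fun g => ordN g == 443520) = [.m22]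
    from by decide +kernel] at hg
  simp only [List.mem_cons, List.not_mem_nil, or_false] at hg
  subst hg
  exact hr

theorem m23 (h : IsM23 G) : Spor.IsoM23 G := by
  have := h.1
  obtain ⟨g, hg, hr⟩ := exists_real_filter T (hk h.1) (not_comm h.1 (by rw [h.2]; norm_num))
    (l := [(2, 7), (3, 2), (5, 1), (7, 1), (11, 1), (23, 1)]) (N := 10200960) (by decide +kernel) (by rw [h.2])
    (fun n => n == 10200960) (by rw [h.2]; rfl)
  rw [show (cands [(2, 7), (3, 2), (5, 1), (7, 1), (11, 1), (23, 1)] 10200960).filter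
    (fun g => ordN g == 10200960) = [.m23] from by decide +kernel] at hg
  simp only [List.mem_cons, List.not_mem_nil, or_false] at hg
  subst hg
  exact hr

theorem mcl (h : IsMcL G) : Spor.IsoMcL G := by
  have := h.1
  obtain ⟨g, hg, hr⟩ := exists_real_filter T (hk h.1) (not_comm h.1 (by rw [h.2]; norm_num))
    (l := [(2, 7), (3, 6), (5, 3), (7, 1), (11, 1)]) (N := 898128000) (by decide +kernel) (by rw [h.2])
    (fun n => n == 898128000) (by rw [h.2]; rfl)
  rw [show (cands [(2, 7), (3, 6), (5, 3), (7, 1), (11, 1)] 898128000).filter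
    (fun g => ordN g == 898128000) = [.mcl] from by decide +kernel] at hg
  simp only [List.mem_cons, List.not_mem_nil, or_false] at hg
  subst hg
  exact hr

/-- **task 35.** -/
theorem exists_frob (h : Nonempty (G ≃* alternatingGroup (Fin 10)) ∨ Nonempty (G ≃* alternatingGroup (Fin 11)) ∨
      Cfsg.IsM22 G ∨ Cfsg.IsM23 G ∨ Cfsg.IsMcL G) :
    ∃ (E : Subgroup G) (x : G), Nat.card E = 8 ∧ (∀ e ∈ E, e * e = 1) ∧ (∀ e ∈ E, x * e * x⁻¹ ∈ E) ∧
      orderOf x = 7 ∧ ∃ e ∈ E, x * e ≠ e * x :=
  FrobElts.exists_frob (h.imp_right (Or.imp_right (Or.imp (m22 T hk) (Or.imp (m23 T hk) (mcl T hk)))))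

end Cfsg.Agent.H852.FrobOrd
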