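import Cfsg.Agent.H584.NC.PIBasic
import Cfsg.Agent.UGT.End.MEleven
import Cfsg.Agent.UGT.MTwentyThree.Aut
import Cfsg.Agent.GH.LowRankMathieu
import Cfsg.Agent.S0381
import Cfsg.Agent.SporadicA.MathieuRecog

/-!
# The cases `M₁₁`, `M₂₃` of S4386 (helper852)
-/

set_option autoImplicit false

namespace Cfsg.Agent.H852.NCMathieu

open Cfsg Subgroup Cfsg.Agent.H584.NC

universe u v

variable {G : Type u} [Group G] [Finite G] {S M : Subgroup G} {r : ℕ}

omit [Finite G] in
theorem top_of_inner (h : PI S M r) (hin : ∀ φ : MulAut S, ∃ s : S, φ = MulAut.conj s) : S = ⊤ := by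
  have := h.normal
  rw [eq_top_iff]
  intro g _
  obtain ⟨s, hs⟩ := hin (MulAut.conjNormal g)
  have h1 : (s : G)⁻¹ * g ∈ centralizer (S : Set G) := by
    rw [mem_centralizer_iff]
    intro t ht
    have h2 : ((MulAut.conjNormal g (⟨t, ht⟩ : S) : S) : G) = ((MulAut.conj s ⟨t, ht⟩ : S) : G) := by rw [hs]
    rw [MulAut.conjNormal_apply, MulAut.conj_apply] at h2
    have h3 : g * t * g⁻¹ = (s : G) * t * (s : G)⁻¹ := h2
    calc t * ((s : G)⁻¹ * g) = (s : G)⁻¹ * ((s : G) * t * (s : G)⁻¹) * g := by group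
      _ = (s : G)⁻¹ * (g * t * g⁻¹) * g := by rw [h3]
      _ = (s : G)⁻¹ * g * t := by group
  rw [h.cent, mem_bot, inv_mul_eq_one] at h1
  rw [← h1]
  exact s.2

theorem exists_over {X : Type v} [Group X] (e : S ≃* X) (hS : S = ⊤) (h : PI S M r) {L : Subgroup X} (hL : L ≠ ⊤)
    (hn : ¬ NC L) : ∃ K : Subgroup X, L ≤ K ∧ K.index = r ∧ ¬ r ∣ Nat.card K := by
  subst hS
  let f : G ≃* X := topEquiv.symm.trans e
  have h1 : ¬ NC (L.map f.symm.toMonoidHom) := by
    intro h2
    exact hn (h2.of_injective (f.symm.subgroupMap L).toMonoidHom (f.symm.subgroupMap L).injective)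
  have h2 : L.map f.symm.toMonoidHom ≠ ⊤ := by
    intro h3
    apply hL
    rw [eq_top_iff]
    intro x _
    have h4 : f.symm x ∈ L.map f.symm.toMonoidHom := h3 ▸ mem_top _
    obtain ⟨y, hy, h5⟩ := h4
    rwa [← f.symm.injective h5]
  obtain ⟨K, -, hK, -, hr, hd⟩ := h.exists_over h1 (top_sup_eq _) h2
  refine ⟨K.map f.toMonoidHom, ?_, ?_, ?_⟩
  · intro x hx
    exact ⟨f.symm x, hK (mem_map_of_mem _ hx), f.apply_symm_apply x⟩
  · rw [← hr]
    exact index_map_equiv K f
  · rw [Nat.card_congr (K.equivMapOfInjective f.toMonoidHom f.injective).symm.toEquiv]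
    exact hd

open Cfsg.Agent.GH.LowRankMathieu Cfsg.Agent.J4Type.CocodeMask Cfsg.Agent.SporadicA.GolayBase
open Cfsg.Agent.SporadicA.GolayPerm hiding pcomp papp_pcomp
open scoped Pointwise

theorem sq_eq : Spor.squareDodecad = fin 340831 := by
  apply Finset.ext
  decide +kernel

/-- an element of `M₁₁` with a given table -/
theorem mem_M11 {P : ℕ} (h : (isPerm P && isAut P) = true) (h1 : pimg P 340831 = 340831) (h2 : papp P 0 = 0) :
    ((mk P h : M24) : Equiv.Perm GolayPt) ∈ Spor.M11 := by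
  have hP : isPerm P = true := by
    rw [Bool.and_eq_true] at h
    exact h.1
  refine ⟨⟨(mk P h).2, ?_⟩, ?_⟩
  · show _ ∈ MulAction.stabilizer _ _
    rw [MulAction.mem_stabilizer_iff, sq_eq]
    exact (smul_fin hP 340831).trans (by rw [h1])
  · show _ ∈ MulAction.stabilizer _ _
    rw [MulAction.mem_stabilizer_iff]
    apply idx_injective
    show idx (((mk P h : M24) : Equiv.Perm GolayPt) (some 0)) = idx (some 0)
    rw [isTab_mk P h (some 0), idx_zero, h2]

/-- table of a permutation -/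
def Tab (g : Equiv.Perm GolayPt) (P : ℕ) : Prop := ∀ p : GolayPt, idx (g p) = papp P (idx p)

theorem Tab.mul {g h : Equiv.Perm GolayPt} {P Q : ℕ} (hg : Tab g P) (hh : Tab h Q) : Tab (g * h) (pcomp P Q) := by
  intro p
  rw [papp_pcomp P Q (idx_lt p), ← hh p, ← hg]
  rfl

theorem tab_one : Tab 1 pone := by
  intro p
  have h : ∀ p : GolayPt, idx p = papp pone (idx p) := by decide +kernel
  exact h p

theorem Tab.eq {g h : Equiv.Perm GolayPt} {P : ℕ} (hg : Tab g P) (hh : Tab h P) : g = h := by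
  apply Equiv.ext
  intro p
  apply idx_injective
  rw [hg, hh]

/-- power of a table -/
def ppow (P : ℕ) : ℕ → ℕ
  | 0 => pone
  | n + 1 => pcomp (ppow P n) P

theorem Tab.pow {g : Equiv.Perm GolayPt} {P : ℕ} (hg : Tab g P) : ∀ n, Tab (g ^ n) (ppow P n)
  | 0 => by rw [pow_zero]; exact tab_one
  | n + 1 => by rw [pow_succ]; exact (hg.pow n).mul hg

theorem Tab.pow_eq_one {g : Equiv.Perm GolayPt} {P : ℕ} (hg : Tab g P) {n : ℕ} (h : ppow P n = pone) : g ^ n = 1 :=
  (hg.pow n).eq (h ▸ tab_one)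

theorem not_nc_of_pair {X : Type*} [Group X] [Finite X] {u v : X} {m n : ℕ} (hm : ¬ 2 ∣ m) (hn : ¬ 2 ∣ n)
    (hu : u ^ m = 1) (hv : v ^ n = 1) (h2 : (u * v) ^ 2 = 1) (hne : u * v ≠ 1) : ¬ NC X := by
  intro h
  have h3 := h.closed (x := u) (y := v) (fun h4 => hm (h4.trans (orderOf_dvd_of_pow_eq_one hu)))
    (fun h4 => hn (h4.trans (orderOf_dvd_of_pow_eq_one hv)))
  have : Fact (Nat.Prime 2) := ⟨Nat.prime_two⟩
  rw [orderOf_eq_prime h2 hne] at h3
  exact h3 dvd_rfl

/-! ### `M₁₁` -/

def PX : ℕ := 983435072843990828779021698901151808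
def PU : ℕ := 975284342942119534910977467418354048
def PV : ℕ := 981759386190175716564125263593507904
def PW : ℕ := 859784853650621546173567887598560768

/-- the stabilizer of the second point in `M₁₁` (isomorphic to `PSL₂(11)`) -/
def L11 : Subgroup Spor.M11 := (MulAction.stabilizer (Equiv.Perm GolayPt) (none : GolayPt)).subgroupOf Spor.M11

/-- an element of `M₁₁` with a given table -/
noncomputable def mk11 (P : ℕ) (h : (isPerm P && isAut P) = true) (h1 : pimg P 340831 = 340831)
    (h2 : papp P 0 = 0) : Spor.M11 := ⟨_, mem_M11 h h1 h2⟩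

theorem tab_mk11 (P : ℕ) (h : (isPerm P && isAut P) = true) (h1 : pimg P 340831 = 340831)
    (h2 : papp P 0 = 0) : Tab (mk11 P h h1 h2 : Equiv.Perm GolayPt) P := isTab_mk P h

theorem mem_L11 {g : Spor.M11} {P : ℕ} (hg : Tab (g : Equiv.Perm GolayPt) P) : g ∈ L11 ↔ papp P 23 = 23 := by
  rw [L11, mem_subgroupOf, MulAction.mem_stabilizer_iff]
  have h1 := hg none
  rw [idx_none] at h1
  rw [← h1]
  constructor
  · intro h2
    rw [show (g : Equiv.Perm GolayPt) none = none from h2, idx_none]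
  · intro h2
    exact idx_injective (h2.trans idx_none.symm)

theorem m11 (h : PI S M 11) (hS : Spor.IsoM11 S) : False := by
  have htop : S = ⊤ := top_of_inner h (Cfsg.Agent.UGT.End.MEleven.inner hS)
  obtain ⟨e⟩ := hS
  let u : Spor.M11 := mk11 PU (by decide +kernel) (by decide +kernel) (by decide +kernel)
  let v : Spor.M11 := mk11 PV (by decide +kernel) (by decide +kernel) (by decide +kernel)
  let w : Spor.M11 := mk11 PW (by decide +kernel) (by decide +kernel) (by decide +kernel)
  let x : Spor.M11 := mk11 PX (by decide +kernel) (by decide +kernel) (by decide +kernel)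
  have tu : Tab (u : Equiv.Perm GolayPt) PU := tab_mk11 _ _ _ _
  have tv : Tab (v : Equiv.Perm GolayPt) PV := tab_mk11 _ _ _ _
  have tw : Tab (w : Equiv.Perm GolayPt) PW := tab_mk11 _ _ _ _
  have tx : Tab (x : Equiv.Perm GolayPt) PX := tab_mk11 _ _ _ _
  have hu : u ∈ L11 := (mem_L11 tu).2 (by decide +kernel)
  have hv : v ∈ L11 := (mem_L11 tv).2 (by decide +kernel)
  have hw : w ∉ L11 := fun hw => absurd ((mem_L11 tw).1 hw) (by decide +kernel)
  have hx : x ∈ L11 := (mem_L11 tx).2 (by decide +kernel)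
  have hne : L11 ≠ ⊤ := fun h1 => hw (h1 ▸ mem_top w)
  have hnc : ¬ NC L11 := by
    refine not_nc_of_pair (X := L11) (u := ⟨u, hu⟩) (v := ⟨v, hv⟩) (m := 5) (n := 3) (by norm_num) (by norm_num)
      ?_ ?_ ?_ ?_
    · exact Subtype.ext (Subtype.ext (tu.pow_eq_one (by decide +kernel)))
    · exact Subtype.ext (Subtype.ext (tv.pow_eq_one (by decide +kernel)))
    · exact Subtype.ext (Subtype.ext ((tu.mul tv).pow_eq_one (by decide +kernel)))
    · intro h1
      have h2 : (u : Equiv.Perm GolayPt) * (v : Equiv.Perm GolayPt) = 1 :=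
        congrArg (fun z : L11 => ((z : Spor.M11) : Equiv.Perm GolayPt)) h1
      have h3 := tu.mul tv
      rw [h2] at h3
      have h4 := h3 (some 1)
      revert h4
      decide +kernel
  obtain ⟨K, hLK, -, hd⟩ := exists_over e htop h hne hnc
  apply hd
  have hox : orderOf x = 11 := by
    have : Fact (Nat.Prime 11) := ⟨by norm_num⟩
    refine orderOf_eq_prime (Subtype.ext (tx.pow_eq_one (by decide +kernel))) ?_
    intro h1
    have h2 : (x : Equiv.Perm GolayPt) = 1 := congrArg (fun z : Spor.M11 => (z : Equiv.Perm GolayPt)) h1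
    rw [h2] at tx
    have h4 := tx (some 1)
    revert h4
    decide +kernel
  have h1 := orderOf_dvd_natCard (⟨x, hLK hx⟩ : K)
  rwa [Subgroup.orderOf_mk, hox] at h1

/-! ### `M₂₃` -/

/-- mask of the heptad `{0, 12, 14, 16, 17, 18, 22}` -/
def mT : ℕ := 4673537

/-- the heptad -/
def T : Finset GolayPt := fin mT

/-- the stabilizer of the heptad in `M₂₃` -/
def L23 : Subgroup Spor.M23 := (MulAction.stabilizer (Equiv.Perm GolayPt) T).subgroupOf Spor.M23

theorem mem_L23' {g : Spor.M23} : g ∈ L23 ↔ (g : Equiv.Perm GolayPt) • T = T := Iff.rfl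

theorem mem_L23 {g : Spor.M23} (h : ∀ p ∈ T, (g : Equiv.Perm GolayPt) p ∈ T) : g ∈ L23 := by
  rw [mem_L23']
  apply Finset.eq_of_subset_of_card_le
  · intro x hx
    rw [Finset.mem_smul_finset] at hx
    obtain ⟨y, hy, rfl⟩ := hx
    exact h y hy
  · rw [Finset.card_smul_finset]

theorem of_mem_L23 {g : Spor.M23} (h : g ∈ L23) (p : GolayPt) : p ∈ T ↔ (g : Equiv.Perm GolayPt) p ∈ T := by
  constructor
  · intro hp
    rw [← mem_L23'.1 h]
    exact Finset.smul_mem_smul_finset hp
  · intro hp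
    rw [← mem_L23'.1 h] at hp
    obtain ⟨y, hy, h1⟩ := Finset.mem_smul_finset.1 hp
    rwa [← (g : Equiv.Perm GolayPt).injective h1]

theorem mem_M23 {P : ℕ} (h : (isPerm P && isAut P) = true) (h1 : papp P 23 = 23) :
    ((mk P h : M24) : Equiv.Perm GolayPt) ∈ Spor.M23 := by
  refine ⟨(mk P h).2, ?_⟩
  show _ ∈ MulAction.stabilizer _ _
  rw [MulAction.mem_stabilizer_iff]
  apply idx_injective
  show idx (((mk P h : M24) : Equiv.Perm GolayPt) none) = idx none
  rw [isTab_mk P h none, idx_none, h1]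

/-- an element of `M₂₃` with a given table -/
noncomputable def mk23 (P : ℕ) (h : (isPerm P && isAut P) = true) (h1 : papp P 23 = 23) : Spor.M23 :=
  ⟨_, mem_M23 h h1⟩

theorem tab_mk23 (P : ℕ) (h : (isPerm P && isAut P) = true) (h1 : papp P 23 = 23) :
    Tab (mk23 P h h1 : Equiv.Perm GolayPt) P := isTab_mk P h

theorem mem_L23_of_tab {g : Spor.M23} {P : ℕ} (hg : Tab (g : Equiv.Perm GolayPt) P) (hP : isPerm P = true)
    (hT : pimg P mT = mT) : g ∈ L23 := by
  have h1 : (g : Equiv.Perm GolayPt) = permOf P hP := hg.eq (fun p => idx_permOf hP p)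
  rw [mem_L23', h1]
  exact (smul_fin hP mT).trans (by rw [hT]; rfl)

def P7 : ℕ := 978303231047050836816723501698534734
def Q7 : ℕ := 971303820444157186471825790565758000
/-- `z ↦ z + 1` -/
def PS : ℕ := pack [1,2,3,4,5,6,7,8,9,10,11,12,13,14,15,16,17,18,19,20,21,22,0,23]

noncomputable def g7 : Spor.M23 := mk23 P7 (by decide +kernel) (by decide +kernel)
noncomputable def v7 : Spor.M23 := mk23 Q7 (by decide +kernel) (by decide +kernel)
noncomputable def s1 : Spor.M23 := mk23 PS (by decide +kernel) (by decide +kernel)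
noncomputable def tA' : Spor.M23 := mk23 PA (by decide +kernel) (by decide +kernel)
noncomputable def tB' : Spor.M23 := mk23 PB (by decide +kernel) (by decide +kernel)
noncomputable def tC' : Spor.M23 := mk23 PC (by decide +kernel) (by decide +kernel)
noncomputable def tD' : Spor.M23 := mk23 PD (by decide +kernel) (by decide +kernel)

theorem t7 : Tab (g7 : Equiv.Perm GolayPt) P7 := tab_mk23 _ _ _
theorem u7 : Tab (v7 : Equiv.Perm GolayPt) Q7 := tab_mk23 _ _ _
theorem ts : Tab (s1 : Equiv.Perm GolayPt) PS := tab_mk23 _ _ _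
theorem hA' : Tab (tA' : Equiv.Perm GolayPt) PA := tab_mk23 _ _ _
theorem hB' : Tab (tB' : Equiv.Perm GolayPt) PB := tab_mk23 _ _ _
theorem hC' : Tab (tC' : Equiv.Perm GolayPt) PC := tab_mk23 _ _ _
theorem hD' : Tab (tD' : Equiv.Perm GolayPt) PD := tab_mk23 _ _ _

theorem g7_mem : g7 ∈ L23 := mem_L23_of_tab t7 (by decide +kernel) (by decide +kernel)
theorem v7_mem : v7 ∈ L23 := mem_L23_of_tab u7 (by decide +kernel) (by decide +kernel)
theorem tA_mem : tA' ∈ L23 := mem_L23_of_tab hA' (by decide +kernel) (by decide +kernel)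
theorem tB_mem : tB' ∈ L23 := mem_L23_of_tab hB' (by decide +kernel) (by decide +kernel)
theorem tC_mem : tC' ∈ L23 := mem_L23_of_tab hC' (by decide +kernel) (by decide +kernel)
theorem tD_mem : tD' ∈ L23 := mem_L23_of_tab hD' (by decide +kernel) (by decide +kernel)

theorem s1_notMem : s1 ∉ L23 := by
  intro h
  have h1 := (of_mem_L23 h (pt 0)).1 (by rw [T, mem_fin]; decide +kernel)
  rw [T, mem_fin, ts] at h1
  revert h1
  decide +kernel

theorem nc23 : ¬ NC L23 := by
  refine not_nc_of_pair (X := L23) (u := ⟨g7, g7_mem⟩) (v := ⟨v7, v7_mem⟩) (m := 7) (n := 7) (by norm_num)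
    (by norm_num) ?_ ?_ ?_ ?_
  · exact Subtype.ext (Subtype.ext (t7.pow_eq_one (by decide +kernel)))
  · exact Subtype.ext (Subtype.ext (u7.pow_eq_one (by decide +kernel)))
  · exact Subtype.ext (Subtype.ext ((t7.mul u7).pow_eq_one (by decide +kernel)))
  · intro h1
    have h2 : (g7 : Equiv.Perm GolayPt) * (v7 : Equiv.Perm GolayPt) = 1 :=
      congrArg (fun z : L23 => ((z : Spor.M23) : Equiv.Perm GolayPt)) h1
    have h3 := t7.mul u7
    rw [h2] at h3
    have h4 := h3 (some 1)
    revert h4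
    decide +kernel

/-- `L23` is transitive on the heptad -/
theorem trans_T : ∀ i < 24, ∀ j < 24, mT.testBit i = true → mT.testBit j = true →
    ∃ k < 7, papp (ppow P7 k) i = j := by
  decide +kernel

/-- words in the translations -/
def wd (k : ℕ) : ℕ :=
  pcomp (if k % 2 = 0 then pone else PA) (pcomp (if k / 2 % 2 = 0 then pone else PB)
    (pcomp (if k / 4 % 2 = 0 then pone else PC) (if k / 8 % 2 = 0 then pone else PD)))

/-- `L23` is transitive outside the octad -/
theorem trans_C : ∀ i < 23, ∀ j < 23, mT.testBit i = false → mT.testBit j = false → ∃ k < 16, papp (wd k) i = j := by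
  decide +kernel

theorem exists_wd (k : ℕ) : ∃ g ∈ L23, Tab (g : Equiv.Perm GolayPt) (wd k) := by
  have key : ∀ {g : Spor.M23} {P : ℕ} (c : Prop) [Decidable c], g ∈ L23 → Tab (g : Equiv.Perm GolayPt) P →
      ∃ g' ∈ L23, Tab (g' : Equiv.Perm GolayPt) (if c then pone else P) := by
    intro g P c _ hg ht
    split_ifs
    · exact ⟨1, one_mem _, tab_one⟩
    · exact ⟨g, hg, ht⟩
  obtain ⟨a, ha, ta⟩ := key (k % 2 = 0) tA_mem hA'
  obtain ⟨b, hb, tb⟩ := key (k / 2 % 2 = 0) tB_mem hB'
  obtain ⟨c, hc, tc⟩ := key (k / 4 % 2 = 0) tC_mem hC'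
  obtain ⟨d, hd, td⟩ := key (k / 8 % 2 = 0) tD_mem hD'
  exact ⟨a * (b * (c * d)), mul_mem ha (mul_mem hb (mul_mem hc hd)), ta.mul (tb.mul (tc.mul td))⟩

theorem fix_none (g : Spor.M23) : (g : Equiv.Perm GolayPt) none = none := g.2.2

theorem none_notMem : (none : GolayPt) ∉ T := by
  rw [T, mem_fin]
  decide +kernel

/-- `L23` is contained in no subgroup of index 23 and order prime to 23. -/
theorem not_over {K : Subgroup Spor.M23} (hK : L23 ≤ K) (hi : K.index = 23) (hd : ¬ 23 ∣ Nat.card K) : False := by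
  have hne : ∀ {p : GolayPt}, p ≠ none → idx p < 23 := by
    intro p hp
    have h1 := idx_lt p
    rcases Nat.lt_or_ge (idx p) 23 with h | h
    · exact h
    · exfalso
      apply hp
      apply idx_injective
      rw [idx_none]
      omega
  have hKT : K ≤ L23 := by
    intro k hk
    apply mem_L23
    intro t ht
    by_contra hkt
    apply hd
    have ht0 : t ≠ none := fun h => none_notMem (h ▸ ht)
    have horb : MulAction.orbit K t = {p : GolayPt | p ≠ none} := by
      apply Set.Subset.antisymm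
      · rintro _ ⟨g, rfl⟩ h1
        have h2 : ((g : Spor.M23) : Equiv.Perm GolayPt) t = none := h1
        exact ht0 (((g : Spor.M23) : Equiv.Perm GolayPt).injective (h2.trans (fix_none _).symm))
      · intro p hp
        by_cases hpT : p ∈ T
        · obtain ⟨j, -, hj⟩ := trans_T (idx t) (idx_lt t) (idx p) (idx_lt p) (mem_fin.1 ht) (mem_fin.1 hpT)
          refine ⟨⟨g7 ^ j, hK (pow_mem g7_mem j)⟩, ?_⟩
          apply idx_injective
          exact (t7.pow j t).trans hj
        · have hk0 : (k : Equiv.Perm GolayPt) t ≠ none := by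
            intro h2
            exact ht0 ((k : Equiv.Perm GolayPt).injective (h2.trans (fix_none _).symm))
          have e1 : mT.testBit (idx ((k : Equiv.Perm GolayPt) t)) = false := by
            rw [T, mem_fin] at hkt
            simpa using hkt
          have e2 : mT.testBit (idx p) = false := by
            rw [T, mem_fin] at hpT
            simpa using hpT
          obtain ⟨j, -, hj⟩ := trans_C _ (hne hk0) _ (hne hp) e1 e2
          obtain ⟨g, hg, tg⟩ := exists_wd j
          refine ⟨⟨g * k, mul_mem (hK hg) hk⟩, ?_⟩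
          apply idx_injective
          exact (tg _).trans hj
    have h1 := MulAction.index_stabilizer K t
    have h2 : Set.ncard {p : GolayPt | p ≠ none} = 23 := by
      rw [Set.ncard_eq_toFinset_card']
      decide +kernel
    rw [horb, h2] at h1
    rw [← h1]
    exact index_dvd_card _
  have hcard : Nat.card K = 443520 := by
    have h1 := K.card_mul_index
    rw [hi, Cfsg.Agent.SporadicA.MathieuRecog.card_M23] at h1
    omega
  have h11 : Fact (Nat.Prime 11) := ⟨by norm_num⟩
  obtain ⟨g, hg⟩ := exists_prime_orderOf_dvd_card' (G := K) 11 (by rw [hcard]; norm_num)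
  have hgL : (g : Spor.M23) ∈ L23 := hKT g.2
  set γ : Equiv.Perm GolayPt := ((g : Spor.M23) : Equiv.Perm GolayPt) with hγ
  have hoγ : orderOf γ = 11 := by
    rw [hγ, Subgroup.orderOf_coe, Subgroup.orderOf_coe, hg]
  have hfix : ∀ t ∈ T, γ t = t := by
    have h1 : ∀ x, γ x ∈ T ↔ x ∈ T := fun x => (of_mem_L23 hgL x).symm
    have h2 : (γ.subtypePerm h1) ^ 11 = 1 := by
      rw [Equiv.Perm.subtypePerm_pow]
      apply Equiv.ext
      intro x
      apply Subtype.ext
      show (γ ^ 11) x = x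
      rw [← hoγ, pow_orderOf_eq_one]
      rfl
    have h3 : orderOf (γ.subtypePerm h1) ∣ 5040 := by
      refine (_root_.orderOf_dvd_natCard (γ.subtypePerm h1)).trans ?_
      rw [Nat.card_perm, Nat.card_eq_fintype_card, Fintype.card_coe]
      have h4 : T.card = 7 := by decide +kernel
      rw [h4]
      decide
    have h4 : orderOf (γ.subtypePerm h1) = 1 := by
      have h5 := Nat.dvd_gcd (orderOf_dvd_of_pow_eq_one h2) h3
      exact Nat.dvd_one.1 (by simpa using h5)
    rw [orderOf_eq_one_iff] at h4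
    intro t ht
    have h5 := congrArg (fun z : Equiv.Perm {x // x ∈ T} => ((z ⟨t, ht⟩ : {x // x ∈ T}) : GolayPt)) h4
    exact h5
  have hoct : fin 13062145 ∈ octads := (fin_mem_octads_iff (by norm_num)).2 ⟨by decide +kernel, by decide +kernel⟩
  have hmem : γ ∈ M24 ⊓ fixingSubgroup (Equiv.Perm GolayPt) ((fin 13062145 : Finset GolayPt) : Set GolayPt) := by
    refine ⟨((g : Spor.M23)).2.1, ?_⟩
    refine (mem_fixingSubgroup_iff (M := Equiv.Perm GolayPt)).2 ?_
    intro y hy
    show γ y = y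
    have h1 : ∀ y : GolayPt, y ∈ fin 13062145 → y ≠ none → y ∈ T := by decide +kernel
    by_cases hy0 : y = none
    · rw [hy0]; exact fix_none _
    · exact hfix y (h1 y hy hy0)
  have h1 := (Cfsg.Agent.S0381.result _ hoct).2 γ hmem
  have h2 := orderOf_dvd_of_pow_eq_one ((pow_two γ).trans h1)
  rw [hoγ] at h2
  revert h2
  decide

theorem m23 (h : PI S M 23) (hS : Spor.IsoM23 S) : False := by
  obtain ⟨e⟩ := hS
  have htop : S = ⊤ := by
    refine top_of_inner h fun φ => ?_
    obtain ⟨m, hm⟩ := Cfsg.Agent.UGT.MTwentyThree.Aut.exists_conj ((e.symm.trans φ).trans e)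
    refine ⟨e.symm m, ?_⟩
    apply MulEquiv.ext
    intro x
    have h1 : e (φ (e.symm (e x))) = m * e x * m⁻¹ := congrArg (fun z : MulAut Spor.M23 => z (e x)) hm
    rw [e.symm_apply_apply] at h1
    apply e.injective
    rw [h1, MulAut.conj_apply, map_mul, map_mul, map_inv, e.apply_symm_apply]
  have hne : L23 ≠ ⊤ := fun h1 => s1_notMem (h1 ▸ mem_top s1)
  obtain ⟨K, hLK, hi, hd⟩ := exists_over e htop h hne nc23
  exact not_over hLK hi hd

/-- **task 513.** -/
theorem m11_m23 {G : Type u} [Group G] [Finite G] {S M : Subgroup G} :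
    (PI S M 11 → Spor.IsoM11 S → False) ∧ (PI S M 23 → Spor.IsoM23 S → False) :=
  ⟨m11, m23⟩

end Cfsg.Agent.H852.NCMathieu
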