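import Cfsg.Agent.H852.Fi22Data

/-!
Kernel checks of the Coxeter relations of the presented group Fi22 on matrices of degree 78 over the field with 13 elements.
-/

set_option autoImplicit false

namespace Cfsg.Agent.H852.Fi22RelA

open Cfsg.Agent.Lib.PackMat Cfsg.Agent.H852.Fi22Data

theorem ok_a : okG C Ga = true := by decide +kernel

theorem ok_b : okG C Gb = true := by decide +kernel

theorem ok_c : okG C Gc = true := by decide +kernel

theorem ok_d : okG C Gd = true := by decide +kernel

theorem ok_e : okG C Ge = true := by decide +kernel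

theorem ok_f : okG C Gf = true := by decide +kernel

theorem ok_g : okG C Gg = true := by decide +kernel

theorem ok_h : okG C Gh = true := by decide +kernel

theorem ok_i : okG C Gi = true := by decide +kernel

theorem r_aa : checkScalar C [Ga, Ga] 1 0 C.n = true := by decide +kernel

theorem r_bb : checkScalar C [Gb, Gb] 1 0 C.n = true := by decide +kernel

theorem r_cc : checkScalar C [Gc, Gc] 1 0 C.n = true := by decide +kernel

theorem r_dd : checkScalar C [Gd, Gd] 1 0 C.n = true := by decide +kernel

theorem r_ee : checkScalar C [Ge, Ge] 1 0 C.n = true := by decide +kernel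

theorem r_ff : checkScalar C [Gf, Gf] 1 0 C.n = true := by decide +kernel

theorem r_gg : checkScalar C [Gg, Gg] 1 0 C.n = true := by decide +kernel

theorem r_hh : checkScalar C [Gh, Gh] 1 0 C.n = true := by decide +kernel

theorem r_ii : checkScalar C [Gi, Gi] 1 0 C.n = true := by decide +kernel

theorem r_ab : checkScalar C [Ga, Gb, Ga, Gb, Ga, Gb] 1 0 C.n = true := by decide +kernel

theorem r_ac : checkScalar C [Ga, Gc, Ga, Gc] 1 0 C.n = true := by decide +kernel

theorem r_ad : checkScalar C [Ga, Gd, Ga, Gd] 1 0 C.n = true := by decide +kernel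

theorem r_ae : checkScalar C [Ga, Ge, Ga, Ge] 1 0 C.n = true := by decide +kernel

theorem r_af : checkScalar C [Ga, Gf, Ga, Gf] 1 0 C.n = true := by decide +kernel

theorem r_ag : checkScalar C [Ga, Gg, Ga, Gg] 1 0 C.n = true := by decide +kernel

theorem r_ah : checkScalar C [Ga, Gh, Ga, Gh] 1 0 C.n = true := by decide +kernel

theorem r_ai : checkScalar C [Ga, Gi, Ga, Gi] 1 0 C.n = true := by decide +kernel

theorem r_bc : checkScalar C [Gb, Gc, Gb, Gc, Gb, Gc] 1 0 C.n = true := by decide +kernel

theorem r_bd : checkScalar C [Gb, Gd, Gb, Gd] 1 0 C.n = true := by decide +kernel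

theorem r_be : checkScalar C [Gb, Ge, Gb, Ge] 1 0 C.n = true := by decide +kernel

theorem r_bf : checkScalar C [Gb, Gf, Gb, Gf] 1 0 C.n = true := by decide +kernel

theorem r_bg : checkScalar C [Gb, Gg, Gb, Gg] 1 0 C.n = true := by decide +kernel

theorem r_bh : checkScalar C [Gb, Gh, Gb, Gh] 1 0 C.n = true := by decide +kernel

theorem r_bi : checkScalar C [Gb, Gi, Gb, Gi] 1 0 C.n = true := by decide +kernel

theorem r_cd : checkScalar C [Gc, Gd, Gc, Gd, Gc, Gd] 1 0 C.n = true := by decide +kernel

theorem r_ce : checkScalar C [Gc, Ge, Gc, Ge] 1 0 C.n = true := by decide +kernel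

theorem r_cf : checkScalar C [Gc, Gf, Gc, Gf] 1 0 C.n = true := by decide +kernel

theorem r_cg : checkScalar C [Gc, Gg, Gc, Gg] 1 0 C.n = true := by decide +kernel

theorem r_ch : checkScalar C [Gc, Gh, Gc, Gh] 1 0 C.n = true := by decide +kernel

theorem r_ci : checkScalar C [Gc, Gi, Gc, Gi] 1 0 C.n = true := by decide +kernel

theorem r_de : checkScalar C [Gd, Ge, Gd, Ge, Gd, Ge] 1 0 C.n = true := by decide +kernel

theorem r_df : checkScalar C [Gd, Gf, Gd, Gf] 1 0 C.n = true := by decide +kernel

theorem r_dg : checkScalar C [Gd, Gg, Gd, Gg] 1 0 C.n = true := by decide +kernel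

theorem r_dh : checkScalar C [Gd, Gh, Gd, Gh, Gd, Gh] 1 0 C.n = true := by decide +kernel

theorem r_di : checkScalar C [Gd, Gi, Gd, Gi] 1 0 C.n = true := by decide +kernel

theorem r_ef : checkScalar C [Ge, Gf, Ge, Gf, Ge, Gf] 1 0 C.n = true := by decide +kernel

theorem r_eg : checkScalar C [Ge, Gg, Ge, Gg] 1 0 C.n = true := by decide +kernel

theorem r_eh : checkScalar C [Ge, Gh, Ge, Gh] 1 0 C.n = true := by decide +kernel

theorem r_ei : checkScalar C [Ge, Gi, Ge, Gi] 1 0 C.n = true := by decide +kernel

theorem r_fg : checkScalar C [Gf, Gg, Gf, Gg, Gf, Gg] 1 0 C.n = true := by decide +kernel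

theorem r_fh : checkScalar C [Gf, Gh, Gf, Gh] 1 0 C.n = true := by decide +kernel

theorem r_fi : checkScalar C [Gf, Gi, Gf, Gi] 1 0 C.n = true := by decide +kernel

theorem r_gh : checkScalar C [Gg, Gh, Gg, Gh] 1 0 C.n = true := by decide +kernel

theorem r_gi : checkScalar C [Gg, Gi, Gg, Gi] 1 0 C.n = true := by decide +kernel

theorem r_hi : checkScalar C [Gh, Gi, Gh, Gi, Gh, Gi] 1 0 C.n = true := by decide +kernel

end Cfsg.Agent.H852.Fi22RelA
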